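import Mathlib
import Cfsg.Agent.Lib.ChevSub.Apex
import Cfsg.Agent.Lib.ChevSub2.Base

/-!
# Rank one computations for finite overgroups over an algebraically closed field
-/

set_option autoImplicit false
set_option linter.unusedSectionVars false
set_option linter.unusedVariables false
set_option linter.unnecessarySimpa false

namespace Cfsg.Agent.Lib.ChevSub2

open Cfsg Cfsg.Lie Matrix Cfsg.Agent.Lib.Chev Cfsg.Agent.Lib.Chev.Full Cfsg.Agent.Lib.Chev.Tri
open Cfsg.Agent.Lib.ChevTransfer Cfsg.Agent.Lib.ChevAut.SubField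
open Cfsg.Agent.Lib.ChevAut.ParabFit Cfsg.Agent.Lib.ChevInv Cfsg.Agent.Lib.ChevInv.CentG
open Cfsg.Agent.Lib.ChevAut.RootCent
open Cfsg.Agent.Lib.ChevSub

variable {T : Tabs} {X : Extra} {R : RootTab} {D : ChevalleyDatum} (hF : Full T X R D)
variable {F : Type*} [Field F]

/-- The upper unitriangular matrix. -/
def upS (t : F) : Matrix.SpecialLinearGroup (Fin 2) F := ⟨!![1, t; 0, 1], by simp [Matrix.det_fin_two]⟩

/-- The lower unitriangular matrix. -/
def loS (t : F) : Matrix.SpecialLinearGroup (Fin 2) F := ⟨!![1, 0; t, 1], by simp [Matrix.det_fin_two]⟩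

theorem coe_inv_sl2 (g : Matrix.SpecialLinearGroup (Fin 2) F) :
    ((g⁻¹ : Matrix.SpecialLinearGroup (Fin 2) F) : Matrix (Fin 2) (Fin 2) F) =
      !![(g : Matrix (Fin 2) (Fin 2) F) 1 1, -(g : Matrix (Fin 2) (Fin 2) F) 0 1;
        -(g : Matrix (Fin 2) (Fin 2) F) 1 0, (g : Matrix (Fin 2) (Fin 2) F) 0 0] := by
  rw [Matrix.SpecialLinearGroup.coe_inv, Matrix.adjugate_fin_two]

theorem det_sl2 (g : Matrix.SpecialLinearGroup (Fin 2) F) :
    (g : Matrix (Fin 2) (Fin 2) F) 0 0 * (g : Matrix (Fin 2) (Fin 2) F) 1 1 -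
      (g : Matrix (Fin 2) (Fin 2) F) 0 1 * (g : Matrix (Fin 2) (Fin 2) F) 1 0 = 1 := by
  have := g.2
  rwa [Matrix.det_fin_two] at this

include hF

theorem x_ne_neg {r : ℕ} (hr : r < D.nroots) {t u : F} (h : hF.c.xG r t = hF.c.xG (D.neg r) u) : t = 0 := by
  have hn := hF.neg_lt hr
  have hne := hF.c.neg_ne hr
  have h1 := congrArg (fun g : GL D.Idx F => (g : Matrix D.Idx D.Idx F) (Sum.inr ⟨r, hr⟩) (Sum.inr ⟨D.neg r, hn⟩)) h
  simp only [Checks.coe_xG] at h1
  have e1 : D.x F r t = D.xMat F ⟨r, hr⟩ t := by simp [ChevalleyDatum.x, hr]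
  have e2 : D.x F (D.neg r) u = D.xMat F ⟨D.neg r, hn⟩ u := by simp [ChevalleyDatum.x, hn]
  rw [e1, e2] at h1
  have hneF : (⟨D.neg r, hn⟩ : Fin D.nroots) ≠ ⟨r, hr⟩ := fun e => hne (congrArg Fin.val e)
  have hneF' : (⟨r, hr⟩ : Fin D.nroots) ≠ ⟨D.neg r, hn⟩ := fun e => hneF e.symm
  have a1 : D.xMat F ⟨r, hr⟩ t (Sum.inr ⟨r, hr⟩) (Sum.inr ⟨D.neg r, hn⟩) = -(t ^ 2) := by
    show (if (⟨D.neg r, hn⟩ : Fin D.nroots) = (⟨r, hr⟩ : Fin D.nroots) then (if (⟨r, hr⟩ : Fin D.nroots) = (⟨r, hr⟩ : Fin D.nroots) then (1 : F) else 0)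
      else if ((⟨D.neg r, hn⟩ : Fin D.nroots) : ℕ) = D.negIdx.getD r 0 then (if (⟨r, hr⟩ : Fin D.nroots) = (⟨D.neg r, hn⟩ : Fin D.nroots) then (1 : F) else if (⟨r, hr⟩ : Fin D.nroots) = (⟨r, hr⟩ : Fin D.nroots) then -(t ^ 2) else 0)
      else (if (⟨r, hr⟩ : Fin D.nroots) = (⟨D.neg r, hn⟩ : Fin D.nroots) then 1 else 0) + ((D.chainCoeff r (D.neg r) r).map fun km => ((km.2 : ℤ) : F) * t ^ km.1).sum) = _
    have hv : ((⟨D.neg r, hn⟩ : Fin D.nroots) : ℕ) = D.negIdx.getD r 0 := rfl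
    rw [if_neg hneF, if_pos hv, if_neg hneF', if_pos rfl]
  have a2 : D.xMat F ⟨D.neg r, hn⟩ u (Sum.inr ⟨r, hr⟩) (Sum.inr ⟨D.neg r, hn⟩) = 0 := by
    simp [ChevalleyDatum.xMat, hneF']
  rw [a1, a2] at h1
  have h3 : t ^ 2 = 0 := neg_eq_zero.1 h1
  exact pow_eq_zero_iff (by norm_num) |>.1 h3

omit hF in
/-- Conjugating the upper unitriangular matrices. -/
theorem conj_up (g : Matrix.SpecialLinearGroup (Fin 2) F) (t : F) :
    ((g * upS t * g⁻¹ : Matrix.SpecialLinearGroup (Fin 2) F) : Matrix (Fin 2) (Fin 2) F) =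
      !![1 - (g : Matrix (Fin 2) (Fin 2) F) 0 0 * (g : Matrix (Fin 2) (Fin 2) F) 1 0 * t,
          (g : Matrix (Fin 2) (Fin 2) F) 0 0 ^ 2 * t;
        -(g : Matrix (Fin 2) (Fin 2) F) 1 0 ^ 2 * t,
          1 + (g : Matrix (Fin 2) (Fin 2) F) 0 0 * (g : Matrix (Fin 2) (Fin 2) F) 1 0 * t] := by
  have hdet := det_sl2 g
  rw [Matrix.SpecialLinearGroup.coe_mul, Matrix.SpecialLinearGroup.coe_mul, coe_inv_sl2]
  ext i j
  fin_cases i <;> fin_cases j <;> simp [Matrix.mul_apply, Fin.sum_univ_two, upS]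
  · linear_combination hdet
  · ring
  · ring
  · linear_combination hdet

/-- The kernel of the rank one homomorphism. -/
theorem sl2_ker {r : ℕ} (hr : r < D.nroots) {φ : Matrix.SpecialLinearGroup (Fin 2) F →* GL D.Idx F}
    (hφ : ∀ (g : Matrix.SpecialLinearGroup (Fin 2) F) (t : F),
        ((g : Matrix (Fin 2) (Fin 2) F) = !![1, t; 0, 1] → ((φ g : GL D.Idx F) : Matrix D.Idx D.Idx F) = D.x F r t) ∧
        ((g : Matrix (Fin 2) (Fin 2) F) = !![1, 0; t, 1] → ((φ g : GL D.Idx F) : Matrix D.Idx D.Idx F) = D.x F (D.neg r) t))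
    {g : Matrix.SpecialLinearGroup (Fin 2) F} (hg : φ g = 1) :
    g * g = 1 := by
  have hup : ∀ t : F, φ (upS t) = hF.c.xG r t := fun t => hF.c.eq_xG ((hφ (upS t) t).1 rfl)
  have hlo : ∀ t : F, φ (loS t) = hF.c.xG (D.neg r) t := fun t => hF.c.eq_xG ((hφ (loS t) t).2 rfl)
  have hdet := det_sl2 g
  by_cases hc0 : (g : Matrix (Fin 2) (Fin 2) F) 1 0 = 0
  · have e1 : g * upS 1 * g⁻¹ = upS ((g : Matrix (Fin 2) (Fin 2) F) 0 0 ^ 2) := by
      apply Subtype.ext
      rw [conj_up, hc0]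
      simp [upS]
    have e2 := congrArg φ e1
    rw [map_mul, map_mul, map_inv, hg, hup, hup] at e2
    simp only [one_mul, inv_one, mul_one] at e2
    have h3 := hF.xG_param_inj hr e2
    -- the squares
    have had : (g : Matrix (Fin 2) (Fin 2) F) 0 0 * (g : Matrix (Fin 2) (Fin 2) F) 1 1 = 1 := by
      rw [hc0] at hdet
      linear_combination hdet
    have hda : (g : Matrix (Fin 2) (Fin 2) F) 1 1 = (g : Matrix (Fin 2) (Fin 2) F) 0 0 := by
      linear_combination ((g : Matrix (Fin 2) (Fin 2) F) 1 1) * h3 + ((g : Matrix (Fin 2) (Fin 2) F) 0 0) * had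
    have e3 : g * g = upS (2 * (g : Matrix (Fin 2) (Fin 2) F) 0 0 * (g : Matrix (Fin 2) (Fin 2) F) 0 1) := by
      apply Subtype.ext
      rw [Matrix.SpecialLinearGroup.coe_mul]
      ext i j
      fin_cases i <;> fin_cases j <;> simp [Matrix.mul_apply, Fin.sum_univ_two, upS, hc0, hda]
      · linear_combination -h3
      · ring
      · linear_combination -h3
    have e4 := congrArg φ e3
    rw [map_mul, hg, hup, one_mul] at e4
    have h5 : hF.c.xG r (2 * (g : Matrix (Fin 2) (Fin 2) F) 0 0 * (g : Matrix (Fin 2) (Fin 2) F) 0 1) = hF.c.xG r 0 := by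
      rw [← e4, hF.c.xG_zero]
    have h6 := hF.xG_param_inj hr h5
    rw [e3, h6]
    apply Subtype.ext
    ext i j
    fin_cases i <;> fin_cases j <;> simp [upS]
  · exfalso
    set c := (g : Matrix (Fin 2) (Fin 2) F) 1 0 with hc
    set s := -((g : Matrix (Fin 2) (Fin 2) F) 0 0) / c with hs
    set g1 := upS s * g * (upS s)⁻¹ with hg1
    have hφ1 : φ g1 = 1 := by
      rw [hg1, map_mul, map_mul, map_inv, hg, mul_one, mul_inv_cancel]
    have e00 : (g1 : Matrix (Fin 2) (Fin 2) F) 0 0 = 0 := by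
      rw [hg1, Matrix.SpecialLinearGroup.coe_mul, Matrix.SpecialLinearGroup.coe_mul, coe_inv_sl2]
      simp [Matrix.mul_apply, Fin.sum_univ_two, upS, ← hc, Matrix.vecMul, dotProduct]
      rw [hs]
      field_simp
      ring
    have e10 : (g1 : Matrix (Fin 2) (Fin 2) F) 1 0 = c := by
      rw [hg1, Matrix.SpecialLinearGroup.coe_mul, Matrix.SpecialLinearGroup.coe_mul, coe_inv_sl2]
      simp [Matrix.mul_apply, Fin.sum_univ_two, upS, ← hc, Matrix.vecMul, dotProduct]
    have e1 : g1 * upS 1 * g1⁻¹ = loS (-c ^ 2) := by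
      apply Subtype.ext
      rw [conj_up, e00, e10]
      simp [loS]
    have e2 := congrArg φ e1
    rw [map_mul, map_mul, map_inv, hφ1, hup, hlo] at e2
    simp only [one_mul, inv_one, mul_one] at e2
    exact one_ne_zero (x_ne_neg hF hr e2)

/-- An element with a finite order rank one word lies in a finite field. -/
theorem lam_frob [IsAlgClosed F] {r p : ℕ} [hp : Fact p.Prime] [CharP F p] (hr : r < D.nroots)
    (H : Subgroup (GL D.Idx F)) [Finite ↥H] {lam : F} (hlam : lam ≠ 0) {u : GL D.Idx F}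
    (hy : u * hF.c.xG (D.neg r) 1 * hF.c.xG r lam * u⁻¹ ∈ H) :
    ∃ e : ℕ, e ≠ 0 ∧ lam ^ p ^ e = lam := by
  classical
  obtain ⟨φ, -, hφ⟩ := hF.exists_sl2_hom (F := F) hr
  have hup : ∀ t : F, φ (upS t) = hF.c.xG r t := fun t => hF.c.eq_xG ((hφ (upS t) t).1 rfl)
  have hlo : ∀ t : F, φ (loS t) = hF.c.xG (D.neg r) t := fun t => hF.c.eq_xG ((hφ (loS t) t).2 rfl)
  set A : Matrix.SpecialLinearGroup (Fin 2) F := loS 1 * upS lam with hA
  have hAe : u * φ A * u⁻¹ ∈ H := by
    rw [hA, map_mul, hup, hlo, ← mul_assoc]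
    exact hy
  set N := orderOf (⟨_, hAe⟩ : ↥H) with hN
  have hNpos : 0 < N := orderOf_pos _
  have h1 : (u * φ A * u⁻¹) ^ N = 1 := by
    have := pow_orderOf_eq_one (⟨_, hAe⟩ : ↥H)
    have h2 := congrArg (fun w : ↥H => (w : GL D.Idx F)) this
    simp only [SubgroupClass.coe_pow, OneMemClass.coe_one] at h2
    exact h2
  have h2 : φ (A ^ N) = 1 := by
    rw [map_pow]
    rw [conj_pow] at h1
    have e : φ A ^ N = u⁻¹ * (u * φ A ^ N * u⁻¹) * u := by group
    rw [e, h1]
    group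
  have h3 : A ^ N * A ^ N = 1 := sl2_ker hF hr hφ h2
  have hAm : (A : Matrix (Fin 2) (Fin 2) F) = !![1, lam; 1, 1 + lam] := by
    rw [hA, Matrix.SpecialLinearGroup.coe_mul]
    ext i j
    fin_cases i <;> fin_cases j <;> simp [upS, loS, Matrix.mul_apply, Fin.sum_univ_two] <;> ring
  -- an eigenvalue
  set τ := 2 + lam with hτ
  obtain ⟨μ, hμ⟩ : ∃ μ : F, μ ^ 2 - τ * μ + 1 = 0 := by
    have hdeg : (Polynomial.X ^ 2 - Polynomial.C τ * Polynomial.X + 1 : Polynomial F).degree ≠ 0 := by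
      have : (Polynomial.X ^ 2 - Polynomial.C τ * Polynomial.X + 1 : Polynomial F).natDegree = 2 := by
        compute_degree!
      intro h
      have h2 := Polynomial.natDegree_eq_of_degree_eq_some (n := 0) (by simpa using h)
      rw [this] at h2
      omega
    obtain ⟨μ, hμ⟩ := IsAlgClosed.exists_root _ hdeg
    refine ⟨μ, ?_⟩
    simpa [Polynomial.IsRoot.def] using hμ
  have hμ0 : μ ≠ 0 := by
    rintro rfl
    simp at hμ
  set v : Fin 2 → F := ![lam, μ - 1] with hv
  have hAv : (A : Matrix (Fin 2) (Fin 2) F) *ᵥ v = μ • v := by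
    rw [hAm, hv]
    ext i
    fin_cases i
    · simp [Matrix.mulVec, dotProduct, Fin.sum_univ_two]
      ring
    · simp [Matrix.mulVec, dotProduct, Fin.sum_univ_two]
      rw [hτ] at hμ
      linear_combination -hμ
  have hpow : ∀ n : ℕ, ((A ^ n : Matrix.SpecialLinearGroup (Fin 2) F) : Matrix (Fin 2) (Fin 2) F) *ᵥ v = μ ^ n • v := by
    intro n
    induction n with
    | zero => simp
    | succ n ih =>
      rw [pow_succ, Matrix.SpecialLinearGroup.coe_mul, ← Matrix.mulVec_mulVec, hAv, Matrix.mulVec_smul, ih,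
        smul_smul, pow_succ, mul_comm]
  have hM : μ ^ (N + N) = 1 := by
    have h4 := hpow (N + N)
    rw [pow_add, h3] at h4
    simp only [Matrix.SpecialLinearGroup.coe_one, Matrix.one_mulVec] at h4
    have h5 := congrFun h4 0
    simp only [Pi.smul_apply, smul_eq_mul, hv, Matrix.cons_val_zero] at h5
    rw [pow_add] at h5
    have h6 : (μ ^ N * μ ^ N - 1) * lam = 0 := by linear_combination -h5
    have h7 := (mul_eq_zero.1 h6).resolve_right hlam
    rw [pow_add]
    exact sub_eq_zero.1 h7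
  -- the order of the eigenvalue
  have hfin : IsOfFinOrder μ := isOfFinOrder_iff_pow_eq_one.2 ⟨N + N, by omega, hM⟩
  set m := orderOf μ with hm
  have hmpos : 0 < m := hfin.orderOf_pos
  have hpm : ¬ p ∣ m := by
    rintro ⟨k, hk⟩
    have hk0 : 0 < k := by
      rcases Nat.eq_zero_or_pos k with h | h
      · rw [h, mul_zero] at hk
        omega
      · exact h
    have h5 : (μ ^ k) ^ p = 1 := by
      rw [← pow_mul, mul_comm, ← hk]
      exact pow_orderOf_eq_one μ
    have h6 : (μ ^ k - 1) ^ p = 0 := by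
      rw [sub_pow_char, h5, one_pow, sub_self]
    have h7 := pow_eq_zero_iff (hp.out.ne_zero) |>.1 h6
    have h8 : m ∣ k := orderOf_dvd_of_pow_eq_one (sub_eq_zero.1 h7)
    have h9 := Nat.le_of_dvd hk0 h8
    have h10 := hp.out.two_le
    nlinarith
  have hcop : Nat.Coprime p m := (Nat.Prime.coprime_iff_not_dvd hp.out).2 hpm
  set e := Nat.totient m with he
  have he0 : e ≠ 0 := (Nat.totient_pos.2 hmpos).ne'
  refine ⟨e, he0, ?_⟩
  have hmod := Nat.ModEq.pow_totient hcop
  have hpe : 1 ≤ p ^ e := Nat.one_le_pow _ _ hp.out.pos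
  obtain ⟨k, hk⟩ := (Nat.modEq_iff_dvd' hpe).1 hmod.symm
  have hμq : μ ^ p ^ e = μ := by
    have e1 : p ^ e = m * k + 1 := by omega
    rw [e1, pow_succ, pow_mul, pow_orderOf_eq_one, one_pow, one_mul]
  have hτμ : τ = μ + μ⁻¹ := by
    field_simp
    linear_combination -hμ
  have hlamμ : lam = μ + μ⁻¹ - 2 := by
    rw [← hτμ, hτ]
    ring
  have hg : ∀ x : F, iterateFrobenius F p e x = x ^ p ^ e := fun x => iterateFrobenius_def p e x
  rw [← hg]
  conv_lhs => rw [hlamμ]
  rw [map_sub, map_add, map_inv₀, map_ofNat, hg, hμq, ← hlamμ]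

section top

variable {top : ℕ} (htop : top < D.nroots) (hmax : ∀ s < D.nroots, s ≤ top) (hpos : R.N ≤ top)
include htop hmax hpos

/-- The Dickson step. -/
theorem pair_lemma [IsAlgClosed F] {p : ℕ} [Fact p.Prime] [CharP F p] (hbot : D.neg top = 0) (h2 : (2 : F) ≠ 0) (H : Subgroup (GL D.Idx F)) [Finite ↥H]
    {u : GL D.Idx F} (hu : u ∈ D.posUnipotent F) {lam : F} (hlam : lam ≠ 0)
    (h1 : hF.c.xG top 1 ∈ H) (hb : u * hF.c.xG 0 lam * u⁻¹ ∈ H) :
    hF.c.xG top lam ∈ H ∨ lam ^ 2 = -1 := by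
  classical
  have h0 : 0 < D.nroots := by
    have := hF.neg_lt htop
    omega
  have hneg0 : D.neg 0 = top := by
    have := hF.neg_neg htop
    rwa [hbot] at this
  obtain ⟨φ, -, hφ⟩ := hF.exists_sl2_hom (F := F) h0
  rw [hneg0] at hφ
  let L : Subfield F := Subfield.closure {lam}
  let lamL : L := ⟨lam, Subfield.subset_closure rfl⟩
  haveI : Finite L := by
    have h1H : hF.c.xG top (1 : F) * (u * hF.c.xG 0 lam * u⁻¹) ∈ H := mul_mem h1 hb
    obtain ⟨e, he, hq⟩ := lam_frob hF (r := 0) (p := p) h0 H hlam (u := u) (by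
      have e2 : u * hF.c.xG top 1 = hF.c.xG top 1 * u := top_comm_U hF htop hmax hpos hu 1
      have e3 : u * hF.c.xG top 1 * hF.c.xG 0 lam * u⁻¹ = hF.c.xG top 1 * (u * hF.c.xG 0 lam * u⁻¹) := by
        rw [e2]
        group
      rw [hneg0, e3]
      exact h1H)
    have hle : L ≤ RingHom.eqLocusField (iterateFrobenius F p e) (RingHom.id F) := by
      apply (Subfield.closure_le).2
      rintro x rfl
      exact hq
    have hP : (Polynomial.X ^ p ^ e - Polynomial.X : Polynomial F) ≠ 0 :=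
      FiniteField.X_pow_card_pow_sub_X_ne_zero F he (Fact.out : p.Prime).one_lt
    have hfin : ({x | x ^ p ^ e = x} : Set F).Finite := by
      apply Set.Finite.subset (Finset.finite_toSet (Polynomial.roots (Polynomial.X ^ p ^ e - Polynomial.X : Polynomial F)).toFinset)
      intro x hx
      simp only [Finset.mem_coe, Multiset.mem_toFinset, Polynomial.mem_roots hP, Polynomial.IsRoot.def,
        Polynomial.eval_sub, Polynomial.eval_pow, Polynomial.eval_X]
      rw [sub_eq_zero]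
      exact hx
    exact (hfin.subset (fun x hx => hle hx)).to_subtype
  haveI : Fintype L := Fintype.ofFinite _
  let incl : Matrix.SpecialLinearGroup (Fin 2) L →* Matrix.SpecialLinearGroup (Fin 2) F :=
    Matrix.SpecialLinearGroup.map L.subtype
  let ψ : Matrix.SpecialLinearGroup (Fin 2) L →* GL D.Idx F := (MulAut.conj u).toMonoidHom.comp (φ.comp incl)
  have hψ : ∀ g, ψ g = u * φ (incl g) * u⁻¹ := fun g => rfl
  have h2L : (2 : L) ≠ 0 := by
    intro h
    apply h2
    have h' : L.subtype (2 : L) = L.subtype 0 := by rw [h]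
    rwa [map_ofNat, map_zero] at h'
  have hlamL : lamL ≠ 0 := by
    intro h
    apply hlam
    exact congrArg (fun z : L => (z : F)) h
  have hgen : Subfield.closure ({lamL} : Set L) = ⊤ := by
    rw [eq_top_iff]
    rintro y -
    have h3 : (Subfield.closure ({lamL} : Set L)).map L.subtype = L := by
      rw [RingHom.map_field_closure, Set.image_singleton]
      rfl
    have h4 : (y : F) ∈ (Subfield.closure ({lamL} : Set L)).map L.subtype := by
      rw [h3]
      exact y.2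
    obtain ⟨z, hz, e⟩ := h4
    have : z = y := Subtype.ext e
    rwa [← this]
  have res := Cfsg.Agent.S0801.result (F := L) h2L lamL hlamL hgen
  rcases res with ⟨htopc, -⟩ | ⟨-, h, -⟩
  · left
    have hcl : Subgroup.closure {g : Matrix.SpecialLinearGroup (Fin 2) L | (g : Matrix (Fin 2) (Fin 2) L) = !![1, 0; 1, 1] ∨ (g : Matrix (Fin 2) (Fin 2) L) = !![1, lamL; 0, 1]} ≤ H.comap ψ := by
      rw [Subgroup.closure_le]
      rintro g (hg | hg)
      · have e1 : ((incl g : Matrix.SpecialLinearGroup (Fin 2) F) : Matrix (Fin 2) (Fin 2) F) = !![1, 0; 1, 1] := by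
          rw [Matrix.SpecialLinearGroup.map_apply_coe, hg]
          ext i j
          fin_cases i <;> fin_cases j <;> simp
        have e2 := (hφ (incl g) 1).2 e1
        have e3 : φ (incl g) = hF.c.xG top 1 := hF.c.eq_xG e2
        show ψ g ∈ H
        rw [hψ, e3, top_comm_U hF htop hmax hpos hu 1]
        simpa using h1
      · have e1 : ((incl g : Matrix.SpecialLinearGroup (Fin 2) F) : Matrix (Fin 2) (Fin 2) F) = !![1, lam; 0, 1] := by
          rw [Matrix.SpecialLinearGroup.map_apply_coe, hg]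
          ext i j
          fin_cases i <;> fin_cases j <;> simp [lamL]
        have e2 := (hφ (incl g) lam).1 e1
        have e3 : φ (incl g) = hF.c.xG 0 lam := hF.c.eq_xG e2
        show ψ g ∈ H
        rw [hψ, e3]
        exact hb
    rw [htopc] at hcl
    let g0 : Matrix.SpecialLinearGroup (Fin 2) L := ⟨!![1, 0; lamL, 1], by simp [Matrix.det_fin_two]⟩
    have h5 : ψ g0 ∈ H := hcl (Subgroup.mem_top g0)
    have e1 : ((incl g0 : Matrix.SpecialLinearGroup (Fin 2) F) : Matrix (Fin 2) (Fin 2) F) = !![1, 0; lam, 1] := by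
      rw [Matrix.SpecialLinearGroup.map_apply_coe]
      ext i j
      fin_cases i <;> fin_cases j <;> simp [g0, lamL]
    have e2 := (hφ (incl g0) lam).2 e1
    have e3 : φ (incl g0) = hF.c.xG top lam := hF.c.eq_xG e2
    rw [hψ, e3, top_comm_U hF htop hmax hpos hu lam] at h5
    simpa using h5
  · right
    have := congrArg (fun z : L => (z : F)) h
    simpa using this

end top

end Cfsg.Agent.Lib.ChevSub2
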