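import Mathlib
import Cfsg.Agent.Lib.ChevSub.ApexC
import Cfsg.Agent.Lib.ChevSub2.Apex
import Cfsg.Agent.Lib.ChevSub2.Rat

/-!
# Finite overgroups in odd characteristic: the main reduction
-/

set_option autoImplicit false
set_option linter.unusedSectionVars false
set_option linter.unusedVariables false
set_option linter.unnecessarySimpa false

namespace Cfsg.Agent.Lib.ChevSub2

open Cfsg Cfsg.Lie Matrix Cfsg.Agent.Lib.Chev Cfsg.Agent.Lib.Chev.Full Cfsg.Agent.Lib.Chev.Tri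
open Cfsg.Agent.Lib.ChevTransfer Cfsg.Agent.Lib.ChevAut.SubField
open Cfsg.Agent.Lib.ChevAut.ParabFit Cfsg.Agent.Lib.ChevInv Cfsg.Agent.Lib.ChevInv.CentG
open Cfsg.Agent.Lib.ChevAut.RootCent Equiv
open Cfsg.Agent.Lib.ChevSub

variable {T : Tabs} {X : Extra} {R : RootTab} {D : ChevalleyDatum} (hF : Full T X R D)
variable {F : Type*} [Field F]

/-- `y` is annihilated by the functionals `e_{-κ}^* ∘ a`, `a` in the closure of the rational root elements. -/
def AnnL (D : ChevalleyDatum) (f : F ≃+* F) (h0 : 0 < D.nroots) (y : D.Idx → F) : Prop :=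
  ∀ a ∈ Lf D f, ((a : Matrix D.Idx D.Idx F) *ᵥ y) (Sum.inr ⟨0, h0⟩) = 0

section ann

variable (f : F ≃+* F) (h0 : 0 < D.nroots) {L : ℕ → Prop}

include hF

/-- The coordinates in the class `L` of an annihilated vector vanish. -/
theorem ann_root' (hm : ChevMonoN.checkMono T X D = true)
    (hdown : ∀ r < D.nroots, L r → r ≠ 0 → ∃ i < D.rank, X.wf i r < r ∧ L (X.wf i r)) :
    ∀ (r : ℕ) (hr : r < D.nroots), L r → ∀ y : D.Idx → F, AnnL D f h0 y → y (Sum.inr ⟨r, hr⟩) = 0 := by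
  intro r
  induction r using Nat.strong_induction_on with
  | _ r ih =>
    intro hr hL y hy
    by_cases hr0 : r = 0
    · subst hr0
      have := hy 1 (one_mem _)
      simpa using this
    · obtain ⟨i, hi, h1, h2⟩ := hdown r hr hL hr0
      have hw := hF.wf_lt hi hr
      have hy' : AnnL D f h0 (((hF.nS i : GL D.Idx F) : Matrix D.Idx D.Idx F) *ᵥ y) := by
        intro a ha
        have := hy (a * hF.nS i) (mul_mem ha (nS_mem_Lf hF f hi))
        rw [Units.val_mul, ← Matrix.mulVec_mulVec] at this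
        exact this
      have h3 := ih _ h1 hw h2 _ hy'
      rw [Matrix.mulVec, dotProduct, Finset.sum_eq_single (Sum.inr ⟨r, hr⟩)] at h3
      · have h4 : ((hF.nS i : GL D.Idx F) : Matrix D.Idx D.Idx F) (Sum.inr ⟨X.wf i r, hw⟩) (Sum.inr ⟨r, hr⟩) =
            ((hF.etaU (F := F) hi ⟨r, hr⟩ : Fˣ) : F) := by
          have h5 := colAct_nS hF (F := F) hm hi ⟨r, hr⟩ (Sum.inr (hF.wPerm hi ⟨r, hr⟩))
          rw [if_pos rfl] at h5
          exact h5
        rw [h4] at h3
        exact (mul_eq_zero.1 h3).resolve_left (Units.ne_zero _)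
      · intro b _ hb
        cases b with
        | inl j =>
          rw [hF.coe_nS, ChevMonoN.nMat_h (hF.c.sound F) hF.c.rank_eq hm hi j]
          simp
        | inr s =>
          have h4 := colAct_nS hF (F := F) hm hi s (Sum.inr ⟨X.wf i r, hw⟩)
          rw [h4, if_neg, zero_mul]
          intro e
          apply hb
          have e2 : X.wf i r = X.wf i s := congrArg Fin.val (Sum.inr.inj e)
          have e3 : r = s := by
            have e4 := hF.wf_wf hi hr
            have e5 := hF.wf_wf hi s.2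
            rw [e2, e5] at e4
            exact e4.symm
          congr 1
          exact Fin.ext e3.symm
      · intro h
        exact absurd (Finset.mem_univ _) h

/-- Invariance under a root element. -/
theorem ann_x' (hm : ChevMonoN.checkMono T X D = true) (h2 : (2 : F) ≠ 0) (hC : ChainT D L)
    (hdown : ∀ r < D.nroots, L r → r ≠ 0 → ∃ i < D.rank, X.wf i r < r ∧ L (X.wf i r))
    {y : D.Idx → F} (hy : AnnL D f h0 y) {r : ℕ} (hr : r < D.nroots) (t : F) :
    AnnL D f h0 (D.x F r t *ᵥ y) := by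
  intro a ha
  have hx : ∀ t : F, D.x F r t = D.xMat F ⟨r, hr⟩ t := fun t => by simp [ChevalleyDatum.x, hr]
  have h3 := C3_zero hC ⟨r, hr⟩ y (fun s hs => ann_root' hF f h0 hm hdown s s.2 hs y hy)
  set v1 := Cm D F ⟨r, hr⟩ 1 *ᵥ y with hv1
  set v2 := Cm D F ⟨r, hr⟩ 2 *ᵥ y with hv2
  have hexp : ∀ t : F, D.x F r t *ᵥ y = y + t • v1 + t ^ 2 • v2 := by
    intro t
    rw [hx, x_poly hC, Matrix.add_mulVec, Matrix.add_mulVec, Matrix.add_mulVec, Matrix.one_mulVec,
      Matrix.smul_mulVec, Matrix.smul_mulVec, Matrix.smul_mulVec, h3, smul_zero, add_zero]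
  set A := (a : Matrix D.Idx D.Idx F) with hA
  set z : D.Idx := Sum.inr ⟨0, h0⟩ with hz
  have hval : ∀ t : F, (A *ᵥ (D.x F r t *ᵥ y)) z = (A *ᵥ y) z + t * (A *ᵥ v1) z + t ^ 2 * (A *ᵥ v2) z := by
    intro t
    rw [hexp, Matrix.mulVec_add, Matrix.mulVec_add, Matrix.mulVec_smul, Matrix.mulVec_smul]
    simp
  have hA0 : (A *ᵥ y) z = 0 := hy a ha
  have hrat : ∀ τ : F, f τ = τ → (A *ᵥ (D.x F r τ *ᵥ y)) z = 0 := by
    intro τ hτ
    have := hy (a * hF.c.xG r τ) (mul_mem ha (xG_mem_Lf hF f hr hτ))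
    rw [Units.val_mul, ← Matrix.mulVec_mulVec] at this
    exact this
  have h1a := hrat 1 (map_one f)
  have h1b := hrat (-1) (by simp)
  rw [hval, hA0] at h1a h1b
  have e2 : (2 : F) * (A *ᵥ v2) z = 0 := by linear_combination h1a + h1b
  have e3 : (A *ᵥ v2) z = 0 := (mul_eq_zero.1 e2).resolve_left h2
  have e4 : (A *ᵥ v1) z = 0 := by
    rw [e3] at h1a
    linear_combination h1a
  show (A *ᵥ (D.x F r t *ᵥ y)) z = 0
  rw [hval, hA0, e3, e4]
  ring

/-- Invariance under the group. -/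
theorem ann_group' (hm : ChevMonoN.checkMono T X D = true) (h2 : (2 : F) ≠ 0) (hC : ChainT D L)
    (hdown : ∀ r < D.nroots, L r → r ≠ 0 → ∃ i < D.rank, X.wf i r < r ∧ L (X.wf i r))
    {g : GL D.Idx F} (hg : g ∈ D.group F) :
    ∀ y : D.Idx → F, AnnL D f h0 y → AnnL D f h0 ((g : Matrix D.Idx D.Idx F) *ᵥ y) := by
  have key : ∀ g ∈ D.group F, (∀ y : D.Idx → F, AnnL D f h0 y → AnnL D f h0 ((g : Matrix D.Idx D.Idx F) *ᵥ y)) ∧
      (∀ y : D.Idx → F, AnnL D f h0 y → AnnL D f h0 (((g⁻¹ : GL D.Idx F) : Matrix D.Idx D.Idx F) *ᵥ y)) := by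
    intro g hg
    induction hg using Subgroup.closure_induction with
    | mem x hx =>
      obtain ⟨r, t, hx⟩ := hx
      have e1 : x = hF.c.xG r t := by
        apply Units.ext
        rw [hx, Checks.coe_xG]
        simp [ChevalleyDatum.x]
      subst e1
      constructor
      · intro y hy
        exact ann_x' hF f h0 hm h2 hC hdown hy r.2 t
      · intro y hy
        rw [hF.c.xG_inv]
        exact ann_x' hF f h0 hm h2 hC hdown hy r.2 (-t)
    | one =>
      constructor <;> intro y hy <;> simpa using hy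
    | mul a b _ _ ha hb =>
      constructor
      · intro y hy
        rw [Units.val_mul, ← Matrix.mulVec_mulVec]
        exact ha.1 _ (hb.1 _ hy)
      · intro y hy
        rw [_root_.mul_inv_rev, Units.val_mul, ← Matrix.mulVec_mulVec]
        exact hb.2 _ (ha.2 _ hy)
    | inv a _ ha =>
      constructor
      · exact ha.2
      · intro y hy
        rw [inv_inv]
        exact ha.1 _ hy
  exact (key g hg).1

end ann

section top

variable {top j0 : ℕ} (htop : top < D.nroots) (hmax : ∀ s < D.nroots, s ≤ top) (hpos : R.N ≤ top)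
include hF htop hmax hpos

section Ov

variable (f : F ≃+* F) (H : Subgroup (GL D.Idx F)) (hHG : H ≤ D.group F)
  (hM : Lf D f ≤ H)
  (hNS : ∀ u ∈ H, u ∈ D.posUnipotent F → glMap D f u = u)

include hHG hM hNS

theorem entry_dichotomy' [Finite ↥H] [IsAlgClosed F] {p : ℕ} [Fact p.Prime] [CharP F p] (hm : ChevMonoN.checkMono T X D = true) (h2 : (2 : F) ≠ 0)
    (h0 : 0 < D.nroots) (hbot : D.neg top = 0) {x : GL D.Idx F} (hx : x ∈ H) :
    f ((x : Matrix D.Idx D.Idx F) (Sum.inr ⟨0, h0⟩) (Sum.inr ⟨top, htop⟩)) =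
        (x : Matrix D.Idx D.Idx F) (Sum.inr ⟨0, h0⟩) (Sum.inr ⟨top, htop⟩) ∨
      (((x : Matrix D.Idx D.Idx F) (Sum.inr ⟨0, h0⟩) (Sum.inr ⟨top, htop⟩)) ^ 2 = -1 ∧
        ∀ τ : F, f τ = τ → τ ≠ 0 → τ ^ 2 = 1) := by
  obtain ⟨u, hu, n, hn, u', hu', σ, ν, e, h1, h3, hconj, hcol⟩ :=
    exists_top_form hF htop hmax hpos hm (hHG hx)
  set c := (x : Matrix D.Idx D.Idx F) (Sum.inr ⟨0, h0⟩) (Sum.inr ⟨top, htop⟩) with hc
  have hc2 : c = (u : Matrix D.Idx D.Idx F) (Sum.inr ⟨0, h0⟩) (Sum.inr (σ ⟨top, htop⟩)) * (ν ⟨top, htop⟩ : F) :=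
    hcol _
  rw [U_row_bot hF htop hmax hpos hbot hu] at hc2
  by_cases hs : σ ⟨top, htop⟩ = ⟨0, h0⟩
  · rw [hs, if_pos rfl, one_mul] at hc2
    by_cases hfc : f c = c
    · exact Or.inl hfc
    · right
      have key : ∀ τ : F, f τ = τ → τ ≠ 0 → (c * τ) ^ 2 = -1 := by
        intro τ hτ hτ0
        have hxτ : hF.c.xG top τ ∈ H := x_rat hF f H hM htop hτ
        have h4 := mul_mem (mul_mem hx hxτ) (inv_mem hx)
        rw [hconj τ, hs, ← hc2] at h4
        have hc0 : c ≠ 0 := by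
          rw [hc2]
          exact Units.ne_zero _
        rcases pair_lemma hF htop hmax hpos (p := p) hbot h2 H hu (mul_ne_zero hc0 hτ0)
          (x_rat hF f H hM htop (map_one f)) h4 with h5 | h5
        · exfalso
          have h6 := hNS _ h5 (hF.xG_mem_U htop hpos _)
          rw [sig_xG hF] at h6
          have h7 := hF.xG_param_inj htop h6
          rw [map_mul, hτ] at h7
          exact hfc (mul_right_cancel₀ hτ0 h7)
        · exact h5
      have h6 := key 1 (map_one f) one_ne_zero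
      rw [mul_one] at h6
      refine ⟨h6, ?_⟩
      intro τ hτ hτ0
      have h7 := key τ hτ hτ0
      rw [mul_pow, h6] at h7
      linear_combination -h7
  · have hne : ¬ ((Sum.inr (σ ⟨top, htop⟩) : D.Idx) = Sum.inr ⟨0, h0⟩) := fun e => hs (Sum.inr.inj e)
    rw [if_neg hne, zero_mul] at hc2
    left
    rw [hc2, map_zero]

theorem stab_of_entries (hm : ChevMonoN.checkMono T X D = true) (h2 : (2 : F) ≠ 0)
    (h0 : 0 < D.nroots) (hbot : D.neg top = 0) {L : ℕ → Prop} (hC : ChainT D L)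
    (hdown : ∀ r < D.nroots, L r → r ≠ 0 → ∃ i < D.rank, X.wf i r < r ∧ L (X.wf i r))
    (hup : ∀ r < D.nroots, L r → ∀ i < D.rank, L (X.wf i r)) (hLtop : L top)
    {x : GL D.Idx F} (hxH : x ∈ H)
    (hent : ∀ a ∈ Lf D f,
      f (((a * x : GL D.Idx F) : Matrix D.Idx D.Idx F) (Sum.inr ⟨0, h0⟩) (Sum.inr ⟨top, htop⟩)) =
        ((a * x : GL D.Idx F) : Matrix D.Idx D.Idx F) (Sum.inr ⟨0, h0⟩) (Sum.inr ⟨top, htop⟩)) :
    ∃ ν : Fˣ, ∀ t : F, (x⁻¹ * glMap D f x) * hF.c.xG top t * (x⁻¹ * glMap D f x)⁻¹ = hF.c.xG top ((ν : F) * t) := by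
  have hxG := hHG hxH
  set e : D.Idx := Sum.inr ⟨top, htop⟩ with he
  let y : D.Idx → F := fun j => f ((x : Matrix D.Idx D.Idx F) j e) - (x : Matrix D.Idx D.Idx F) j e
  have hy : AnnL D f h0 y := by
    intro a ha
    have hfa : glMap D f a = a := sig_of_mem_Lf hF f ha
    have h1 := hent a ha
    have hfa' : ∀ i j, f ((a : Matrix D.Idx D.Idx F) i j) = (a : Matrix D.Idx D.Idx F) i j := by
      intro i j
      have := congrArg (fun g : GL D.Idx F => (g : Matrix D.Idx D.Idx F) i j) hfa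
      simpa [glMap_val] using this
    rw [Units.val_mul, Matrix.mul_apply, map_sum] at h1
    simp only [map_mul, hfa'] at h1
    simp only [Matrix.mulVec, dotProduct, y, mul_sub, Finset.sum_sub_distrib]
    rw [h1, sub_self]
  set g : GL D.Idx F := x⁻¹ * glMap D f x with hg
  have hgG : g ∈ D.group F := mul_mem (inv_mem hxG) (sig_group f hxG)
  set y' : D.Idx → F := ((x⁻¹ : GL D.Idx F) : Matrix D.Idx D.Idx F) *ᵥ y with hy'
  have hy'A : AnnL D f h0 y' := ann_group' hF f h0 hm h2 hC hdown (inv_mem hxG) y hy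
  have hval : ∀ row, (g : Matrix D.Idx D.Idx F) row e = (1 : Matrix D.Idx D.Idx F) row e + y' row := by
    intro row
    have h1 : ((x⁻¹ * x : GL D.Idx F) : Matrix D.Idx D.Idx F) row e = (1 : Matrix D.Idx D.Idx F) row e := by
      rw [inv_mul_cancel]
      rfl
    rw [← h1, hg, hy']
    rw [Units.val_mul, Units.val_mul, Matrix.mul_apply, Matrix.mul_apply]
    simp only [Matrix.mulVec, dotProduct, y, glMap_val, Matrix.map_apply]
    rw [← Finset.sum_add_distrib]
    apply Finset.sum_congr rfl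
    intro j _
    ring
  obtain ⟨u, hu, n, hn, u', hu', σ, ν, eg, h1, h3, hconj, hcol⟩ :=
    exists_top_form hF htop hmax hpos hm hgG
  have hrho : hF.rhoN F ⟨n, hn⟩ = σ := hF.rhoN_eq (g := ⟨n, hn⟩) h1
  have hW := hF.rhoN_mem_Wk ⟨n, hn⟩
  rw [hrho] at hW
  have hwk : ∀ τ ∈ hF.Wk Set.univ, ∀ r : Fin D.nroots, L r ↔ L (τ r) := by
    intro τ hτ
    induction hτ using Subgroup.closure_induction with
    | mem x hx =>
      obtain ⟨i, hi, -, rfl⟩ := hx
      intro r
      constructor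
      · intro hr
        exact hup r r.2 hr i hi
      · intro hr
        have := hup _ (hF.wf_lt hi r.2) hr i hi
        rwa [hF.wf_wf hi r.2] at this
    | one => intro r; rfl
    | mul a b _ _ ha hb =>
      intro r
      rw [hb r, ha (b r)]
      rfl
    | inv a _ ha =>
      intro r
      rw [ha (a⁻¹ r)]
      simp
  have hLσ : L (σ ⟨top, htop⟩) := (hwk σ hW ⟨top, htop⟩).1 hLtop
  have hσ : σ ⟨top, htop⟩ = ⟨top, htop⟩ := by
    by_contra hne
    have h5 := hcol (Sum.inr (σ ⟨top, htop⟩))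
    rw [U_diag hF htop hmax hpos hu, one_mul, hval] at h5
    have h6 : (1 : Matrix D.Idx D.Idx F) (Sum.inr (σ ⟨top, htop⟩)) e = 0 :=
      Matrix.one_apply_ne (fun e' => hne (Sum.inr.inj e'))
    have h7 := ann_root' hF f h0 hm hdown _ (σ ⟨top, htop⟩).2 hLσ y' hy'A
    have h8 : y' (Sum.inr (σ ⟨top, htop⟩)) = 0 := h7
    rw [h6, h8, add_zero] at h5
    exact Units.ne_zero _ h5.symm
  refine ⟨ν ⟨top, htop⟩, fun t => ?_⟩
  have h5 := hconj t
  rw [hσ] at h5
  rw [h5]
  have h6 := top_comm_U hF htop hmax hpos hu ((ν ⟨top, htop⟩ : F) * t)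
  rw [h6]
  group

variable (hNB : ∀ b ∈ H, b ∈ D.borelSubgroup F → glMap D f b = b)
include hNB

theorem fixed_of_entries' (hT2 : T2Tab R D) (hm : ChevMonoN.checkMono T X D = true) (h2 : (2 : F) ≠ 0)
    (h0 : 0 < D.nroots) (hbot : D.neg top = 0) {L : ℕ → Prop} (hC : ChainT D L)
    (hdown : ∀ r < D.nroots, L r → r ≠ 0 → ∃ i < D.rank, X.wf i r < r ∧ L (X.wf i r))
    (hup : ∀ r < D.nroots, L r → ∀ i < D.rank, L (X.wf i r)) (hLtop : L top)
    (hj0 : j0 < D.rank) (hcart0 : 0 < D.cartan j0 top) (hcart : ∀ j < D.rank, j ≠ j0 → D.cartan j top = 0)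
    {x : GL D.Idx F} (hxH : x ∈ H)
    (hent : ∀ a ∈ Lf D f,
      f (((a * x : GL D.Idx F) : Matrix D.Idx D.Idx F) (Sum.inr ⟨0, h0⟩) (Sum.inr ⟨top, htop⟩)) =
        ((a * x : GL D.Idx F) : Matrix D.Idx D.Idx F) (Sum.inr ⟨0, h0⟩) (Sum.inr ⟨top, htop⟩)) :
    glMap D f x = x := by
  have hxG := hHG hxH
  set e : D.Idx := Sum.inr ⟨top, htop⟩ with he
  let y : D.Idx → F := fun j => f ((x : Matrix D.Idx D.Idx F) j e) - (x : Matrix D.Idx D.Idx F) j e
  have hy : AnnL D f h0 y := by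
    intro a ha
    have hfa : glMap D f a = a := sig_of_mem_Lf hF f ha
    have h1 := hent a ha
    have hfa' : ∀ i j, f ((a : Matrix D.Idx D.Idx F) i j) = (a : Matrix D.Idx D.Idx F) i j := by
      intro i j
      have := congrArg (fun g : GL D.Idx F => (g : Matrix D.Idx D.Idx F) i j) hfa
      simpa [glMap_val] using this
    rw [Units.val_mul, Matrix.mul_apply, map_sum] at h1
    simp only [map_mul, hfa'] at h1
    simp only [Matrix.mulVec, dotProduct, y, mul_sub, Finset.sum_sub_distrib]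
    rw [h1, sub_self]
  set g : GL D.Idx F := x⁻¹ * glMap D f x with hg
  have hgG : g ∈ D.group F := mul_mem (inv_mem hxG) (sig_group f hxG)
  set y' : D.Idx → F := ((x⁻¹ : GL D.Idx F) : Matrix D.Idx D.Idx F) *ᵥ y with hy'
  have hy'A : AnnL D f h0 y' := ann_group' hF f h0 hm h2 hC hdown (inv_mem hxG) y hy
  have hval : ∀ row, (g : Matrix D.Idx D.Idx F) row e = (1 : Matrix D.Idx D.Idx F) row e + y' row := by
    intro row
    have h1 : ((x⁻¹ * x : GL D.Idx F) : Matrix D.Idx D.Idx F) row e = (1 : Matrix D.Idx D.Idx F) row e := by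
      rw [inv_mul_cancel]
      rfl
    rw [← h1, hg, hy']
    rw [Units.val_mul, Units.val_mul, Matrix.mul_apply, Matrix.mul_apply]
    simp only [Matrix.mulVec, dotProduct, y, glMap_val, Matrix.map_apply]
    rw [← Finset.sum_add_distrib]
    apply Finset.sum_congr rfl
    intro j _
    ring
  obtain ⟨u, hu, n, hn, u', hu', σ, ν, eg, h1, h3, hconj, hcol⟩ :=
    exists_top_form hF htop hmax hpos hm hgG
  have hrho : hF.rhoN F ⟨n, hn⟩ = σ := hF.rhoN_eq (g := ⟨n, hn⟩) h1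
  have hW := hF.rhoN_mem_Wk ⟨n, hn⟩
  rw [hrho] at hW
  have hwk : ∀ τ ∈ hF.Wk Set.univ, ∀ r : Fin D.nroots, L r ↔ L (τ r) := by
    intro τ hτ
    induction hτ using Subgroup.closure_induction with
    | mem x hx =>
      obtain ⟨i, hi, -, rfl⟩ := hx
      intro r
      constructor
      · intro hr
        exact hup r r.2 hr i hi
      · intro hr
        have := hup _ (hF.wf_lt hi r.2) hr i hi
        rwa [hF.wf_wf hi r.2] at this
    | one => intro r; rfl
    | mul a b _ _ ha hb =>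
      intro r
      rw [hb r, ha (b r)]
      rfl
    | inv a _ ha =>
      intro r
      rw [ha (a⁻¹ r)]
      simp
  have hLσ : L (σ ⟨top, htop⟩) := (hwk σ hW ⟨top, htop⟩).1 hLtop
  have hσ : σ ⟨top, htop⟩ = ⟨top, htop⟩ := by
    by_contra hne
    have h5 := hcol (Sum.inr (σ ⟨top, htop⟩))
    rw [U_diag hF htop hmax hpos hu, one_mul, hval] at h5
    have h6 : (1 : Matrix D.Idx D.Idx F) (Sum.inr (σ ⟨top, htop⟩)) e = 0 :=
      Matrix.one_apply_ne (fun e' => hne (Sum.inr.inj e'))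
    have h7 := ann_root' hF f h0 hm hdown _ (σ ⟨top, htop⟩).2 hLσ y' hy'A
    have h8 : y' (Sum.inr (σ ⟨top, htop⟩)) = 0 := h7
    rw [h6, h8, add_zero] at h5
    exact Units.ne_zero _ h5.symm
  have hnY := stab_top hF htop hmax hpos hj0 hcart0 hcart _ ⟨n, hn⟩ rfl (by rw [hrho]; exact hσ)
  have hnP : n ∈ D.parabolicSubgroup F {j | j ≠ j0} := by
    have hle : Yg D F j0 ⊔ D.diagonalSubgroup F ≤ D.parabolicSubgroup F {j | j ≠ j0} :=
      sup_le (Yg_le_parabolic hF hj0) (le_trans hF.c.diagonal_le_borel (hF.borel_le_parabolic _))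
    exact hle hnY
  have hgP : g ∈ D.parabolicSubgroup F {j | j ≠ j0} := by
    rw [eg]
    exact mul_mem (mul_mem (hF.borel_le_parabolic _ (U_le_B hF hu)) hnP) (hF.borel_le_parabolic _ (U_le_B hF hu'))
  obtain ⟨a, ha, hP⟩ := rat_parabolic hF f {j | j ≠ j0} hxG hgP
  have hfa : glMap D f a = a := sig_of_mem_Lf hF f ha
  have hax : a⁻¹ * x ∈ H := mul_mem (inv_mem (hM ha)) hxH
  have h9 := fixed_of_parabolic hF f H hHG hM hNS hNB hT2 hj0 (k := j0) (J := {j | j ≠ j0}) (by simp) hax hP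
  rw [map_mul, map_inv, hfa] at h9
  exact mul_left_cancel h9

/-- The reduction: only the entries with square `-1` remain. -/
theorem fixed_main' [Finite ↥H] [IsAlgClosed F] {p : ℕ} [Fact p.Prime] [CharP F p] (hT2 : T2Tab R D) (hm : ChevMonoN.checkMono T X D = true) (h2 : (2 : F) ≠ 0)
    (h0 : 0 < D.nroots) (hbot : D.neg top = 0) {L : ℕ → Prop} (hC : ChainT D L)
    (hdown : ∀ r < D.nroots, L r → r ≠ 0 → ∃ i < D.rank, X.wf i r < r ∧ L (X.wf i r))
    (hup : ∀ r < D.nroots, L r → ∀ i < D.rank, L (X.wf i r)) (hLtop : L top)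
    (hj0 : j0 < D.rank) (hcart0 : 0 < D.cartan j0 top) (hcart : ∀ j < D.rank, j ≠ j0 → D.cartan j top = 0)
    (hE : ∀ x ∈ H, ((x : Matrix D.Idx D.Idx F) (Sum.inr ⟨0, h0⟩) (Sum.inr ⟨top, htop⟩)) ^ 2 = -1 →
      f ((x : Matrix D.Idx D.Idx F) (Sum.inr ⟨0, h0⟩) (Sum.inr ⟨top, htop⟩)) ≠
        (x : Matrix D.Idx D.Idx F) (Sum.inr ⟨0, h0⟩) (Sum.inr ⟨top, htop⟩) →
      (∀ τ : F, f τ = τ → τ ≠ 0 → τ ^ 2 = 1) → False)
    {x : GL D.Idx F} (hxH : x ∈ H) : glMap D f x = x := by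
  apply fixed_of_entries' hF htop hmax hpos f H hHG hM hNS hNB hT2 hm h2 h0 hbot hC hdown hup hLtop hj0 hcart0 hcart hxH
  intro a ha
  have hax : a * x ∈ H := mul_mem (hM ha) hxH
  rcases entry_dichotomy' hF htop hmax hpos f H hHG hM hNS (p := p) hm h2 h0 hbot hax with h | ⟨h3, h4⟩
  · exact h
  · by_contra hne
    exact hE _ hax h3 hne h4

end Ov

end top

end Cfsg.Agent.Lib.ChevSub2
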