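import Mathlib
import Cfsg.Agent.Lib.ChevSub.ExcG
import Cfsg.Agent.Lib.ChevSub2.Top

/-!
# The exceptional entries with square `-1`: the generic case, for finite overgroups
-/

set_option autoImplicit false
set_option linter.unusedSectionVars false
set_option linter.unusedVariables false
set_option linter.unnecessarySimpa false

namespace Cfsg.Agent.Lib.ChevSub2

open Cfsg Cfsg.Lie Matrix Cfsg.Agent.Lib.Chev Cfsg.Agent.Lib.Chev.Full Cfsg.Agent.Lib.Chev.Tri
open Cfsg.Agent.Lib.ChevTransfer Cfsg.Agent.Lib.ChevAut.SubField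
open Cfsg.Agent.Lib.ChevAut.ParabFit Cfsg.Agent.Lib.ChevInv Cfsg.Agent.Lib.ChevInv.CentG
open Cfsg.Agent.Lib.ChevAut.RootCent Equiv
open Cfsg.Agent.Lib.ChevSub

variable {T : Tabs} {X : Extra} {R : RootTab} {D : ChevalleyDatum} (hF : Full T X R D)
variable {F : Type*} [Field F]

section

include hF

variable {j0 b1 : ℕ}

/-- The exceptional case: generic form. -/
theorem exc_generic' (hm : ChevMonoN.checkMono T X D = true) (h2 : (2 : F) ≠ 0)
    (hE : ETab R D X j0 b1) {top : ℕ} (htop : top < D.nroots) (hmax : ∀ s < D.nroots, s ≤ top)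
    (hpos : R.N ≤ top) (hbot : D.neg top = 0) (hb1top : b1 ≠ top) (f : F ≃+* F) (H : Subgroup (GL D.Idx F))
    [Finite ↥H] [IsAlgClosed F] {p : ℕ} [Fact p.Prime] [CharP F p]
    (hHG : H ≤ D.group F) (hM : Lf D f ≤ H)
    (hNS : ∀ u ∈ H, u ∈ D.posUnipotent F → glMap D f u = u) (h0 : 0 < D.nroots)
    {x : GL D.Idx F} (hx : x ∈ H)
    (hc2 : ((x : Matrix D.Idx D.Idx F) (Sum.inr ⟨0, h0⟩) (Sum.inr ⟨top, htop⟩)) ^ 2 = -1)
    (hfc : f ((x : Matrix D.Idx D.Idx F) (Sum.inr ⟨0, h0⟩) (Sum.inr ⟨top, htop⟩)) ≠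
      (x : Matrix D.Idx D.Idx F) (Sum.inr ⟨0, h0⟩) (Sum.inr ⟨top, htop⟩))
    (hτ : ∀ τ : F, f τ = τ → τ ≠ 0 → τ ^ 2 = 1) : False := by
  obtain ⟨u, hu, n, hn, u', hu', σ, ν, e, h1, h3, hconj, hcol⟩ :=
    exists_top_form hF htop hmax hpos hm (hHG hx)
  set c := (x : Matrix D.Idx D.Idx F) (Sum.inr ⟨0, h0⟩) (Sum.inr ⟨top, htop⟩) with hc
  have hcu : c = (u : Matrix D.Idx D.Idx F) (Sum.inr ⟨0, h0⟩) (Sum.inr (σ ⟨top, htop⟩)) * (ν ⟨top, htop⟩ : F) :=
    hcol _
  rw [U_row_bot hF htop hmax hpos hbot hu] at hcu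
  have hs : σ ⟨top, htop⟩ = ⟨0, h0⟩ := by
    by_contra hne
    have hne' : ¬ ((Sum.inr (σ ⟨top, htop⟩) : D.Idx) = Sum.inr ⟨0, h0⟩) := fun e => hne (Sum.inr.inj e)
    rw [if_neg hne', zero_mul] at hcu
    rw [hcu] at hc2
    have h4 : (1 : F) = 0 := by
      have h5 : (0 : F) ^ 2 = 0 := by ring
      rw [h5] at hc2
      have h6 : (1 : F) = -(-1) := by ring
      rw [h6, ← hc2]
      ring
    exact one_ne_zero h4
  rw [hs, if_pos rfl, one_mul] at hcu
  have hconj' : ∀ t : F, x * hF.c.xG top t * x⁻¹ = u * hF.c.xG 0 (c * t) * u⁻¹ := by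
    intro t
    rw [hconj t, hs, ← hcu]
  obtain ⟨z, q, hq, hueq⟩ := exists_split hF hE.toETab0 hu
  have hux := split_entry hF hE.toETab0 z hq
  rw [← hueq] at hux
  have hcol1 : (x : Matrix D.Idx D.Idx F) (Sum.inr ⟨1, hE.h1⟩) (Sum.inr ⟨top, htop⟩) = (-z) * c := by
    have := hcol (Sum.inr ⟨1, hE.h1⟩)
    rw [hs, ← hcu, hux] at this
    exact this
  have hval : ∀ t : F, ((hF.c.xG (D.neg (D.simple j0)) t * x : GL D.Idx F) : Matrix D.Idx D.Idx F)
      (Sum.inr ⟨0, h0⟩) (Sum.inr ⟨top, htop⟩) = c * (1 + t * z) := by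
    intro t
    have h5 := row0_entry hF hE t (fun j => (x : Matrix D.Idx D.Idx F) j (Sum.inr ⟨top, htop⟩))
    simp only [Matrix.mulVec, dotProduct] at h5
    rw [Units.val_mul, Matrix.mul_apply, Checks.coe_xG, h5, hcol1]
    ring
  have hs0 := hF.simple_lt hE.hj0
  have hn0 := hF.neg_lt hs0
  have hD : ∀ t : F, f t = t → f (c * (1 + t * z)) = c * (1 + t * z) ∨ (c * (1 + t * z)) ^ 2 = -1 := by
    intro t ht
    have h5 : hF.c.xG (D.neg (D.simple j0)) t * x ∈ H := mul_mem (x_rat hF f H hM hn0 ht) hx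
    have h6 := entry_dichotomy' hF htop hmax hpos f H hHG hM hNS (p := p) hm h2 h0 hbot h5
    rw [hval] at h6
    rcases h6 with h6 | ⟨h6, -⟩
    · exact Or.inl h6
    · exact Or.inr h6
  have hfz : f z = z := z_fixed hF f h2 hc2 hτ (hD 1 (map_one f)) (hD (-1) (by simp))
  -- the rational correction
  have hr : hF.c.xG (D.simple j0) (-z) ∈ H := x_rat hF f H hM hs0 (by rw [map_neg, hfz])
  have hy : q * hF.c.xG 0 c * q⁻¹ ∈ H := by
    have h5 := mul_mem (mul_mem hr (mul_mem (mul_mem hx (x_rat hF f H hM htop (map_one f))) (inv_mem hx))) (inv_mem hr)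
    rw [hconj' 1, hueq, mul_one] at h5
    have e1 : hF.c.xG (D.simple j0) (-z) * (hF.c.xG (D.simple j0) z * q * hF.c.xG 0 c * (hF.c.xG (D.simple j0) z * q)⁻¹) * (hF.c.xG (D.simple j0) (-z))⁻¹ =
        (hF.c.xG (D.simple j0) (-z) * hF.c.xG (D.simple j0) z) * q * hF.c.xG 0 c * q⁻¹ * ((hF.c.xG (D.simple j0) (-z) * hF.c.xG (D.simple j0) z))⁻¹ := by
      group
    rw [e1, hF.c.xG_add] at h5
    simpa using h5
  -- the commutator
  set b := hF.c.xG b1 (1 : F) with hb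
  have hbH : b ∈ H := x_rat hF f H hM hE.hb1 (map_one f)
  have ha0J : ∀ s, QU D {j0} s → s ≠ D.simple j0 := by
    rintro s ⟨-, h5⟩ rfl
    apply h5
    rw [hF.inRootSub_iff]
    refine ⟨hs0, ?_⟩
    intro i hi hiJ
    rw [hF.simple_rc hE.hj0 hi, if_neg]
    rintro rfl
    exact hiJ rfl
  have hbq : b * q = q * b := by
    have hle : rootClosure D F (QU D {j0}) ≤ Subgroup.centralizer {b} := by
      rw [rootClosure, Subgroup.closure_le]
      rintro g ⟨s, t, hs', hg⟩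
      rw [SetLike.mem_coe, Subgroup.mem_centralizer_singleton_iff, hF.c.eq_xG hg]
      by_cases hsb : s = b1
      · subst hsb
        rw [hb, hF.c.xG_add, hF.c.xG_add, add_comm]
      · obtain ⟨h5, h6, -⟩ := hF.QU_spec hs'
        have h7 := hF.xG_comm hE.hb1 h5 hsb (by
          have := hF.neg_lt_N hE.hb1 hE.hb1N
          omega) 1 t
        rw [ChevalleyDatum.commWord, hE.comm s h5 h6 (ha0J s hs') hsb] at h7
        simp only [List.map_nil, Checks.wordG_nil, mul_one] at h7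
        rw [h7]
    exact (Subgroup.mem_centralizer_singleton_iff.1 (hle hq)).symm
  set A := hF.c.xG (D.neg (D.simple j0)) c with hA
  set E := hF.c.xG 0 c with hEd
  have hneg0 : D.neg 0 = top := by
    have := hF.neg_neg htop
    rwa [hbot] at this
  have hN0 : D.neg (D.simple j0) < R.N := hF.neg_lt_N hs0 (hF.simple_ge hE.hj0)
  have e1 : b * E = E * b * A := by
    have h5 := hF.xG_comm (r := 0) (s := b1) h0 hE.hb1 hE.n5 (by rw [hneg0]; exact hb1top) c 1
    have e2 : hF.c.wordG (D.commWord F 0 b1 c 1) = A := by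
      unfold ChevalleyDatum.commWord
      rw [hE.comm0]
      simp only [List.map_cons, List.map_nil, Checks.wordG_cons, Checks.wordG_nil, mul_one]
      rw [hA]
      congr 1
      push_cast
      ring
    rw [e2] at h5
    exact h5
  have e2 : A * b = b * A := by
    have h5 := hF.xG_comm (r := b1) (s := D.neg (D.simple j0)) hE.hb1 hn0 hE.n6 hE.n7 1 c
    rw [ChevalleyDatum.commWord, hE.comm1] at h5
    simp only [List.map_nil, Checks.wordG_nil, mul_one] at h5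
    exact h5
  have e3 : A * E = E * A := by
    have h5 := hF.xG_comm (r := 0) (s := D.neg (D.simple j0)) h0 hn0 (Ne.symm hE.n3) (by
      rw [hneg0]
      omega) c c
    rw [ChevalleyDatum.commWord, hE.comm2] at h5
    simp only [List.map_nil, Checks.wordG_nil, mul_one] at h5
    exact h5
  have e4 : b * E * b⁻¹ * E⁻¹ = A := by
    rw [e1]
    have : E * b * A * b⁻¹ * E⁻¹ = E * (b * A * b⁻¹) * E⁻¹ := by group
    rw [this, ← e2]
    have : E * (A * b * b⁻¹) * E⁻¹ = (E * A) * E⁻¹ := by group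
    rw [this, ← e3]
    group
  have hw : q * A * q⁻¹ ∈ H := by
    have h5 := mul_mem (mul_mem (mul_mem hbH hy) (inv_mem hbH)) (inv_mem hy)
    have e5 : b * (q * E * q⁻¹) * b⁻¹ * (q * E * q⁻¹)⁻¹ = (b * q) * E * (b * q)⁻¹ * q * E⁻¹ * q⁻¹ := by group
    rw [e5, hbq] at h5
    have e6 : q * b * E * (q * b)⁻¹ * q * E⁻¹ * q⁻¹ = q * (b * E * b⁻¹ * E⁻¹) * q⁻¹ := by group
    rw [e6, e4] at h5
    exact h5
  -- the Weyl element
  have hnJ : hF.nS (F := F) j0 ∈ D.parabolicSubgroup F {j0} := hF.nS_mem_parabolic hE.hj0 rfl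
  have hnN := hF.parabolic_le_normalizer {j0} hnJ
  rw [unipotentRadical_eq] at hnN
  set n0 := hF.nS (F := F) j0 with hn0d
  have hn0H : n0 ∈ H := nS_mem hF f H hM hE.hj0
  have hq' : n0 * q * n0⁻¹ ∈ rootClosure D F (QU D {j0}) := (Subgroup.mem_normalizer_iff.1 hnN q).1 hq
  set q' := n0 * q * n0⁻¹ with hq'd
  set c' : F := ((X.eta j0 (D.neg (D.simple j0)) : ℤ) : F) * c with hc'
  have hnA : n0 * A * n0⁻¹ = hF.c.xG (D.simple j0) c' := by
    rw [hA, hn0d, hF.nS_conj_xG hE.hj0 hn0, hE.wf0]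
  have hQU : rootClosure D F (QU D {j0}) ≤ D.posUnipotent F := by
    rw [← unipotentRadical_eq]
    exact hF.radical_le_U _
  have he0 : q' * hF.c.xG (D.simple j0) c' * q'⁻¹ ∈ H := by
    have h5 := mul_mem (mul_mem hn0H hw) (inv_mem hn0H)
    have e5 : n0 * (q * A * q⁻¹) * n0⁻¹ = q' * (n0 * A * n0⁻¹) * q'⁻¹ := by
      rw [hq'd]
      group
    rw [e5, hnA] at h5
    exact h5
  have hUa : ∀ t : F, hF.c.xG (D.simple j0) t ∈ D.posUnipotent F := fun t =>
    hF.xG_mem_U hs0 (hF.simple_ge hE.hj0) t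
  have hfix := hNS _ he0 (mul_mem (mul_mem (hQU hq') (hUa _)) (inv_mem (hQU hq')))
  rw [map_mul, map_mul, map_inv, sig_xG hF] at hfix
  have hfc' : f c' = c' := by
    apply coord_fixed hF hE.toETab0 f (q := (hF.c.xG (D.simple j0) c')⁻¹ * q' * hF.c.xG (D.simple j0) c' * q'⁻¹)
    · apply mul_mem _ (inv_mem hq')
      have h5 := (Subgroup.mem_normalizer_iff.1 (hF.xG_mem_normalizer_UJ (J := {j0}) (Or.inl ((hF.isPos_iff).2 ⟨hs0, hF.simple_ge hE.hj0⟩)) (-c')) q').1 hq'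
      have e1 := hF.c.xG_inv (D.simple j0) c'
      have e2 : (hF.c.xG (D.simple j0) (-c'))⁻¹ = hF.c.xG (D.simple j0) c' := by rw [← e1, inv_inv]
      rw [e2] at h5
      rw [e1]
      exact h5
    · have e5 : hF.c.xG (D.simple j0) c' * ((hF.c.xG (D.simple j0) c')⁻¹ * q' * hF.c.xG (D.simple j0) c' * q'⁻¹) =
          q' * hF.c.xG (D.simple j0) c' * q'⁻¹ := by group
      rw [e5, map_mul, map_mul, map_inv, sig_xG hF]
      exact hfix
  apply hfc
  rw [hc', map_mul, map_intCast] at hfc'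
  exact mul_left_cancel₀ (hF.eta_ne hE.hj0 hn0) hfc'

end

end Cfsg.Agent.Lib.ChevSub2
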