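import Mathlib
import Cfsg.Agent.Lib.ChevSub.ExcB2
import Cfsg.Agent.Lib.ChevSub2.Exc

/-!
# Type `B₂` in characteristic two: the pairs
-/

set_option autoImplicit false
set_option linter.unusedSectionVars false
set_option linter.unusedVariables false
set_option linter.unnecessarySimpa false
set_option maxRecDepth 100000

namespace Cfsg.Agent.Lib.ChevSub2.B2

open Cfsg Cfsg.Lie Matrix Cfsg.Agent.Lib.Chev Cfsg.Agent.Lib.Chev.Full
open Cfsg.Agent.Lib.ChevTransfer Cfsg.Agent.Lib.ChevAut.SubField Cfsg.Agent.Lib.ChevInv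
open Cfsg.Agent.Lib.ChevSub Cfsg.Agent.Lib.ChevSub.B2 Cfsg.Agent.Lib.Chev.TabB2 Cfsg.Agent.Lib.Chev.RootB2T

section

variable {F : Type*} [Field F] (f : F ≃+* F) (H : Subgroup (GL chevB2.Idx F))
  (hM : Lf chevB2 f ≤ H)

local notation "x" => Cfsg.Agent.Lib.ChevSub.B2.hF.c.xG

include hM

section two

variable [CharP F 2]

omit hM in
theorem eta_one {i s : ℕ} (hi : i < chevB2.rank) (hs : s < chevB2.nroots) : ((X.eta i s : ℤ) : F) = 1 := by
  have h := hF.eta_sq (F := F) hi hs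
  have h2 : ((X.eta i s : ℤ) : F) + 1 = 0 ∨ False := by
    left
    have h3 : (((X.eta i s : ℤ) : F) + 1) * (((X.eta i s : ℤ) : F) + 1) = 0 := by
      have h4 : (2 : F) = 0 := CharTwo.two_eq_zero
      linear_combination h + (((X.eta i s : ℤ) : F) + 1) * h4
    exact mul_self_eq_zero.1 h3
  rcases h2 with h2 | h2
  · exact CharTwo.add_eq_zero.1 h2
  · exact h2.elim

omit hM in
theorem c56' (t u : F) : x 6 u * x 5 t = x 5 t * x 6 u := by
  have h := comm56 t u
  have h2 : -(2 * t * u) = 0 := by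
    rw [CharTwo.two_eq_zero]
    ring
  rw [h2, hF.c.xG_zero, mul_one] at h
  exact h

omit hM in
theorem comm45' (t u : F) : x 5 u * x 4 t = x 4 t * x 5 u * (x 6 (t * u) * x 7 (t * u ^ 2)) := by
  have h := comm45 t u
  rwa [CharTwo.neg_eq] at h

theorem c2_conj {r s i : ℕ} (hi : i < chevB2.rank) (hr : r < chevB2.nroots) (hs : s < chevB2.nroots) {a b : F}
    (h : x r a * x s b ∈ H) : x (X.wf i r) a * x (X.wf i s) b ∈ H := by
  have hn := nS_mem hF f H hM (F := F) hi
  have h1 := mul_mem (mul_mem hn h) (inv_mem hn)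
  have e : hF.nS i * (x r a * x s b) * (hF.nS i)⁻¹ =
      (hF.nS i * x r a * (hF.nS i)⁻¹) * (hF.nS i * x s b * (hF.nS i)⁻¹) := by group
  rw [e, hF.nS_conj_xG hi hr, hF.nS_conj_xG hi hs, eta_one hi hr, eta_one hi hs, one_mul, one_mul] at h1
  exact h1

/-- The pairs. -/
def CC (H : Subgroup (GL chevB2.Idx F)) (p l : F) : Prop := x 6 p * x 7 l ∈ H

omit hM in
theorem CC_add {p l p' l' : F} (h : CC H p l) (h' : CC H p' l') : CC H (p + p') (l + l') := by
  unfold CC at *
  have h1 := mul_mem h h'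
  have e := c67 p' l
  rw [← hF.c.xG_add, ← hF.c.xG_add]
  have e2 : x 6 p * x 7 l * (x 6 p' * x 7 l') = x 6 p * (x 7 l * x 6 p') * x 7 l' := by group
  rw [e2, e] at h1
  have e3 : x 6 p * (x 6 p' * x 7 l) * x 7 l' = x 6 p * x 6 p' * (x 7 l * x 7 l') := by group
  rwa [e3] at h1

omit hM in
theorem CC_zero_left {l : F} : CC H 0 l ↔ x 7 l ∈ H := by
  unfold CC
  rw [hF.c.xG_zero, one_mul]

omit hM in
theorem CC_zero_right {p : F} : CC H p 0 ↔ x 6 p ∈ H := by
  unfold CC
  rw [hF.c.xG_zero, mul_one]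

theorem CC_sq {p l t : F} (h : CC H p l) (ht : f t = t) : CC H (t * p) (t * p ^ 2) := by
  have h5 : x 5 p * x 7 l ∈ H := by
    have := c2_conj f H hM (i := 1) (r := 6) (s := 7) (by decide) (by decide) (by decide) h
    rwa [show X.wf 1 6 = 5 by decide +kernel, w17] at this
  have hg : x 4 t ∈ H := x_rat hF f H hM (by decide) ht
  have e1 := comm45' t p
  have e2 := c47 t l
  have e3 : (x 4 t * (x 5 p * x 7 l))⁻¹ * ((x 5 p * x 7 l) * x 4 t) = x 6 (t * p) * x 7 (t * p ^ 2) := by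
    have e4 : (x 5 p * x 7 l) * x 4 t = x 5 p * (x 7 l * x 4 t) := by group
    rw [e4, e2]
    have e5 : x 5 p * (x 4 t * x 7 l) = (x 5 p * x 4 t) * x 7 l := by group
    rw [e5, e1]
    have e6 := c67 (t * p) l
    have e7 := hF.c.xG_add 7 (t * p ^ 2) l
    have e8 := hF.c.xG_add 7 l (t * p ^ 2)
    rw [add_comm] at e8
    calc (x 4 t * (x 5 p * x 7 l))⁻¹ * (x 4 t * x 5 p * (x 6 (t * p) * x 7 (t * p ^ 2)) * x 7 l)
        = (x 7 l)⁻¹ * (x 6 (t * p) * (x 7 (t * p ^ 2) * x 7 l)) := by group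
      _ = (x 7 l)⁻¹ * (x 6 (t * p) * (x 7 l * x 7 (t * p ^ 2))) := by rw [e7, e8]
      _ = (x 7 l)⁻¹ * ((x 6 (t * p) * x 7 l) * x 7 (t * p ^ 2)) := by group
      _ = (x 7 l)⁻¹ * ((x 7 l * x 6 (t * p)) * x 7 (t * p ^ 2)) := by rw [e6]
      _ = _ := by group
  unfold CC
  rw [← e3]
  exact mul_mem (inv_mem (mul_mem hg h5)) (mul_mem h5 hg)

theorem CC_ll {p l t : F} (h : CC H p l) (ht : f t = t) : CC H (l * t) (l * t ^ 2) := by
  have h4 : x 6 p * x 4 l ∈ H := by
    have := c2_conj f H hM (i := 0) (r := 6) (s := 7) (by decide) (by decide) (by decide) h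
    rwa [w06, show X.wf 0 7 = 4 by decide +kernel] at this
  have hg : x 5 t ∈ H := x_rat hF f H hM (by decide) ht
  have e1 := comm45' l t
  have e2 := c56' t p
  have e3 : (x 6 p * x 4 l * x 5 t)⁻¹ * (x 5 t * (x 6 p * x 4 l)) = x 6 (l * t) * x 7 (l * t ^ 2) := by
    have e4 : x 5 t * (x 6 p * x 4 l) = (x 5 t * x 6 p) * x 4 l := by group
    rw [e4, ← e2]
    have e5 : x 6 p * x 5 t * x 4 l = x 6 p * (x 5 t * x 4 l) := by group
    rw [e5, e1]
    group
  unfold CC
  rw [← e3]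
  exact mul_mem (inv_mem (mul_mem h4 hg)) (mul_mem hg h4)

omit hM in
theorem CC_mix {u t : F} (h4 : x 4 u ∈ H) (h5 : x 5 t ∈ H) : CC H (u * t) (u * t ^ 2) := by
  have e1 := comm45' u t
  have e3 : (x 4 u * x 5 t)⁻¹ * (x 5 t * x 4 u) = x 6 (u * t) * x 7 (u * t ^ 2) := by
    rw [e1]
    group
  unfold CC
  rw [← e3]
  exact mul_mem (inv_mem (mul_mem h4 h5)) (mul_mem h5 h4)

theorem rule_l {p l : F} (h : CC H p l) : x 7 (l + p ^ 2) ∈ H := by
  have h1 := CC_sq f H hM h (map_one f)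
  rw [one_mul, one_mul] at h1
  have h2 := CC_add H h h1
  rw [CharTwo.add_self_eq_zero] at h2
  exact (CC_zero_left H).1 h2

omit hM in
theorem sq_inj {a b : F} (h : a ^ 2 = b ^ 2) : a = b := by
  have h2 : (2 : F) = 0 := CharTwo.two_eq_zero
  have h3 : (a + b) ^ 2 = 0 := by
    linear_combination h + (b ^ 2 + a * b) * h2
  have h4 := pow_eq_zero_iff (n := 2) (by norm_num) |>.1 h3
  exact CharTwo.add_eq_zero.1 h4


/-- The pairs with a rational long coordinate have a rational short coordinate. -/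
theorem b2_special (hAF : ∀ {a : F}, x 7 a ∈ H → f a = a) {p l : F} (hx : x 6 p * x 7 l ∈ H) : f p = p := by
  by_contra hp
  have hc : CC H p l := hx
  have h1 : CC H p (p ^ 2) := by
    have := CC_sq f H hM hc (map_one f)
    rwa [one_mul, one_mul] at this
  have h2 : CC H (p ^ 2) (p ^ 2) := by
    have := CC_ll f H hM h1 (map_one f)
    rwa [mul_one, one_pow, mul_one] at this
  have h3 := rule_l f H hM h2
  have hw2 : f ((p + p ^ 2) ^ 2) = (p + p ^ 2) ^ 2 := by
    apply hAF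
    have e : (p + p ^ 2) ^ 2 = p ^ 2 + (p ^ 2) ^ 2 := by
      have h2' : (2 : F) = 0 := CharTwo.two_eq_zero
      linear_combination p ^ 3 * h2'
    rw [e]
    exact h3
  have hw : f (p + p ^ 2) = p + p ^ 2 := by
    apply sq_inj
    rw [← map_pow]
    exact hw2
  have h4 : CC H p p := by
    have h5 : x 7 (p + p ^ 2) ∈ H := x_rat hF f H hM (by decide) hw
    have h6 := CC_add H h1 ((CC_zero_left H).2 h5)
    rw [add_zero] at h6
    have e : p ^ 2 + (p + p ^ 2) = p := by
      have h2' : (2 : F) = 0 := CharTwo.two_eq_zero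
      linear_combination p ^ 2 * h2'
    rwa [e] at h6
  have h5 : x 5 p * x 7 p ∈ H := by
    have := c2_conj f H hM (i := 1) (r := 6) (s := 7) (by decide) (by decide) (by decide) h4
    rwa [show X.wf 1 6 = 5 by decide +kernel, w17] at this
  have h6 : x 6 p * x 4 p ∈ H := by
    have := c2_conj f H hM (i := 0) (r := 6) (s := 7) (by decide) (by decide) (by decide) h4
    rwa [w06, show X.wf 0 7 = 4 by decide +kernel] at this
  have h7 : CC H (p * p) (p * p ^ 2) := by
    have e1 := comm45' p p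
    have e2 := c57 p p
    have e3 := c56' p p
    have e4 := c67 p p
    have e5 := c46 p p
    have e6 := c47 p p
    have e7 := c67 (p * p) p
    have e8 : (x 6 p * x 4 p * (x 5 p * x 7 p))⁻¹ * ((x 5 p * x 7 p) * (x 6 p * x 4 p)) =
        x 6 (p * p) * x 7 (p * p ^ 2) := by
      -- reorder the right factor
      have e9 : (x 5 p * x 7 p) * (x 6 p * x 4 p) = x 6 p * x 4 p * x 5 p * x 7 p * (x 6 (p * p) * x 7 (p * p ^ 2)) := by
        have e10 := hF.c.xG_add 7 p (p * p ^ 2)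
        have e11 := hF.c.xG_add 7 (p * p ^ 2) p
        rw [add_comm] at e11
        calc (x 5 p * x 7 p) * (x 6 p * x 4 p)
            = x 5 p * (x 7 p * x 6 p) * x 4 p := by group
          _ = x 5 p * (x 6 p * x 7 p) * x 4 p := by rw [e4]
          _ = (x 5 p * x 6 p) * (x 7 p * x 4 p) := by group
          _ = (x 6 p * x 5 p) * (x 4 p * x 7 p) := by rw [e3, e6]
          _ = x 6 p * (x 5 p * x 4 p) * x 7 p := by group
          _ = x 6 p * (x 4 p * x 5 p * (x 6 (p * p) * x 7 (p * p ^ 2))) * x 7 p := by rw [e1]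
          _ = x 6 p * x 4 p * x 5 p * x 6 (p * p) * (x 7 (p * p ^ 2) * x 7 p) := by group
          _ = x 6 p * x 4 p * x 5 p * x 6 (p * p) * (x 7 p * x 7 (p * p ^ 2)) := by rw [e10, e11]
          _ = x 6 p * x 4 p * x 5 p * (x 6 (p * p) * x 7 p) * x 7 (p * p ^ 2) := by group
          _ = x 6 p * x 4 p * x 5 p * (x 7 p * x 6 (p * p)) * x 7 (p * p ^ 2) := by rw [e7]
          _ = _ := by group
      rw [e9]
      group
    unfold CC
    rw [← e8]
    exact mul_mem (inv_mem (mul_mem h6 h5)) (mul_mem h5 h6)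
  have h8 := rule_l f H hM h7
  have h9 : f (p ^ 2 * (p + p ^ 2)) = p ^ 2 * (p + p ^ 2) := by
    apply hAF
    have e : p * p ^ 2 + (p * p) ^ 2 = p ^ 2 * (p + p ^ 2) := by ring
    rwa [e] at h8
  rw [map_mul, hw] at h9
  by_cases hw0 : p + p ^ 2 = 0
  · apply hp
    have h10 : p * (p + 1) = 0 := by
      linear_combination hw0
    rcases mul_eq_zero.1 h10 with h11 | h11
    · rw [h11, map_zero]
    · have h12 : p = 1 := CharTwo.add_eq_zero.1 h11
      rw [h12, map_one]
  · have h10 := mul_right_cancel₀ hw0 h9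
    apply hp
    apply sq_inj
    rw [← map_pow]
    exact h10

end two

end

end Cfsg.Agent.Lib.ChevSub2.B2
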