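import Mathlib
import Cfsg.Agent.Lib.ChevSub2.B2Close

/-!
# The exceptional entries with square `-1`: type `B₂`, for finite overgroups
-/

set_option autoImplicit false
set_option linter.unusedSectionVars false
set_option linter.unusedVariables false
set_option linter.unnecessarySimpa false
set_option maxRecDepth 100000

namespace Cfsg.Agent.Lib.ChevSub2.B2

open Cfsg Cfsg.Lie Matrix Cfsg.Agent.Lib.Chev Cfsg.Agent.Lib.Chev.Full
open Cfsg.Agent.Lib.ChevTransfer Cfsg.Agent.Lib.ChevAut.SubField Cfsg.Agent.Lib.ChevInv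
open Cfsg.Agent.Lib.ChevSub Cfsg.Agent.Lib.ChevSub.B2 Cfsg.Agent.Lib.Chev.TabB2 Cfsg.Agent.Lib.Chev.RootB2T

section

variable {F : Type*} [Field F] (f : F ≃+* F) (H : Subgroup (GL chevB2.Idx F))
  (hM : Lf chevB2 f ≤ H)
  (hNS : ∀ u ∈ H, u ∈ chevB2.posUnipotent F → glMap chevB2 f u = u)

local notation "x" => hF.c.xG

/-- A general row: the only nonzero entries are the diagonal one and two others. -/
theorem row_gen {r u a b : ℕ} (hr : r < chevB2.nroots) (hu : u < chevB2.nroots) (ha : a < chevB2.nroots) (hb : b < chevB2.nroots)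
    (hur : u ≠ r) (hab : a ≠ b) (h1 : a ≠ r) (h2 : a ≠ chevB2.neg r) (h3 : b ≠ r) (h4 : b ≠ chevB2.neg r)
    (hc : ∀ s < chevB2.nroots, s ≠ a → s ≠ b → s ≠ r → s ≠ chevB2.neg r → chevB2.chainCoeff r s u = [])
    (t : F) (B : Matrix chevB2.Idx chevB2.Idx F) (j : chevB2.Idx) :
    (chevB2.x F r t * B) (Sum.inr ⟨u, hu⟩) j = B (Sum.inr ⟨u, hu⟩) j +
      ((chevB2.chainCoeff r a u).map fun km => ((km.2 : ℤ) : F) * t ^ km.1).sum * B (Sum.inr ⟨a, ha⟩) j +
      ((chevB2.chainCoeff r b u).map fun km => ((km.2 : ℤ) : F) * t ^ km.1).sum * B (Sum.inr ⟨b, hb⟩) j := by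
  classical
  have hx : chevB2.x F r t = chevB2.xMat F ⟨r, hr⟩ t := by simp [ChevalleyDatum.x, hr]
  set ca := ((chevB2.chainCoeff r a u).map fun km => ((km.2 : ℤ) : F) * t ^ km.1).sum with hca
  set cb := ((chevB2.chainCoeff r b u).map fun km => ((km.2 : ℤ) : F) * t ^ km.1).sum with hcb
  have hne : (⟨u, hu⟩ : Fin chevB2.nroots) ≠ ⟨r, hr⟩ := fun e => hur (congrArg Fin.val e)
  have key : ∀ s : Fin chevB2.nroots, chevB2.x F r t (Sum.inr ⟨u, hu⟩) (Sum.inr s) =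
      (if s = ⟨u, hu⟩ then 1 else 0) + (if s = ⟨a, ha⟩ then ca else 0) + (if s = ⟨b, hb⟩ then cb else 0) := by
    intro s
    by_cases hsr : (s : ℕ) = r
    · have e : s = ⟨r, hr⟩ := Fin.ext hsr
      have e1 : s ≠ ⟨u, hu⟩ := fun e' => hur ((congrArg Fin.val e').symm.trans hsr)
      have e2 : s ≠ ⟨a, ha⟩ := fun e' => h1 ((congrArg Fin.val e').symm.trans hsr)
      have e3 : s ≠ ⟨b, hb⟩ := fun e' => h3 ((congrArg Fin.val e').symm.trans hsr)
      rw [if_neg e1, if_neg e2, if_neg e3, hx, e]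
      simp [ChevalleyDatum.xMat, hne]
    · by_cases hsn : (s : ℕ) = chevB2.neg r
      · have e2 : s ≠ ⟨a, ha⟩ := fun e' => h2 ((congrArg Fin.val e').symm.trans hsn)
        have e3 : s ≠ ⟨b, hb⟩ := fun e' => h4 ((congrArg Fin.val e').symm.trans hsn)
        have e4 : s ≠ ⟨r, hr⟩ := fun e' => hsr (congrArg Fin.val e')
        have e5 : (s : ℕ) = chevB2.negIdx.getD r 0 := hsn
        rw [if_neg e2, if_neg e3, hx]
        show (if s = (⟨r, hr⟩ : Fin chevB2.nroots) then (if (⟨u, hu⟩ : Fin chevB2.nroots) = (⟨r, hr⟩ : Fin chevB2.nroots) then (1 : F) else 0)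
          else if (s : ℕ) = chevB2.negIdx.getD r 0 then (if (⟨u, hu⟩ : Fin chevB2.nroots) = s then (1 : F) else if (⟨u, hu⟩ : Fin chevB2.nroots) = (⟨r, hr⟩ : Fin chevB2.nroots) then -(t ^ 2) else 0)
          else (if (⟨u, hu⟩ : Fin chevB2.nroots) = s then 1 else 0) + ((chevB2.chainCoeff r s (⟨u, hu⟩ : Fin chevB2.nroots)).map fun km => ((km.2 : ℤ) : F) * t ^ km.1).sum) = _
        rw [if_neg e4, if_pos e5, if_neg hne]
        simp [eq_comm]
      · rw [x_gen_entry hF hr t hsr hsn]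
        by_cases e2 : s = ⟨a, ha⟩
        · have e3 : s ≠ ⟨b, hb⟩ := fun e' => hab ((congrArg Fin.val (e2.symm.trans e')))
          rw [if_pos e2, if_neg e3, e2]
          simp [eq_comm, hca]
        · by_cases e3 : s = ⟨b, hb⟩
          · rw [if_neg e2, if_pos e3, e3]
            simp [eq_comm, hcb]
          · rw [if_neg e2, if_neg e3]
            have e6 := hc s s.2 (fun e' => e2 (Fin.ext e')) (fun e' => e3 (Fin.ext e')) hsr hsn
            have e7 : chevB2.chainCoeff r s (⟨u, hu⟩ : Fin chevB2.nroots) = [] := e6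
            rw [e7]
            simp [eq_comm]
  have hinl : ∀ i : Fin chevB2.rank, chevB2.x F r t (Sum.inr ⟨u, hu⟩) (Sum.inl i) = 0 := by
    intro i
    rw [hx]
    simp [ChevalleyDatum.xMat, hne]
  rw [Matrix.mul_apply, Fintype.sum_sum_type]
  simp only [hinl, zero_mul, Finset.sum_const_zero, zero_add, key, add_mul, Finset.sum_add_distrib]
  simp [ite_mul]

section rows

theorem row_x2 (t : F) (B : Matrix chevB2.Idx chevB2.Idx F) (j : chevB2.Idx) :
    (chevB2.x F 2 t * B) (Sum.inr ⟨0, by decide⟩) j = B (Sum.inr ⟨0, by decide⟩) j +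
      (-2 * t) * B (Sum.inr ⟨1, by decide⟩) j + (-t ^ 2) * B (Sum.inr ⟨3, by decide⟩) j := by
  have e := row_gen (F := F) (r := 2) (u := 0) (a := 1) (b := 3) (by decide) (by decide) (by decide) (by decide)
    (by decide) (by decide) (by decide) (by decide +kernel) (by decide) (by decide +kernel) (by decide +kernel) t B j
  rw [e]
  rw [show chevB2.chainCoeff 2 1 0 = [(1, -2)] by decide +kernel, show chevB2.chainCoeff 2 3 0 = [(2, -1)] by decide +kernel]
  simp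

theorem row_x1 (t : F) (B : Matrix chevB2.Idx chevB2.Idx F) (j : chevB2.Idx) :
    (chevB2.x F 1 t * B) (Sum.inr ⟨0, by decide⟩) j = B (Sum.inr ⟨0, by decide⟩) j +
      (2 * t) * B (Sum.inr ⟨2, by decide⟩) j + (t ^ 2) * B (Sum.inr ⟨4, by decide⟩) j := by
  have e := row_gen (F := F) (r := 1) (u := 0) (a := 2) (b := 4) (by decide) (by decide) (by decide) (by decide)
    (by decide) (by decide) (by decide) (by decide +kernel) (by decide) (by decide +kernel) (by decide +kernel) t B j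
  rw [e]
  rw [show chevB2.chainCoeff 1 2 0 = [(1, 2)] by decide +kernel, show chevB2.chainCoeff 1 4 0 = [(2, 1)] by decide +kernel]
  simp

theorem row_x5 (t : F) (B : Matrix chevB2.Idx chevB2.Idx F) (j : chevB2.Idx) :
    (chevB2.x F 5 t * B) (Sum.inr ⟨2, by decide⟩) j = B (Sum.inr ⟨2, by decide⟩) j := by
  have e := row_gen (F := F) (r := 5) (u := 2) (a := 0) (b := 1) (by decide) (by decide) (by decide) (by decide)
    (by decide) (by decide) (by decide) (by decide +kernel) (by decide) (by decide +kernel) (by decide +kernel) t B j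
  rw [e]
  rw [show chevB2.chainCoeff 5 0 2 = [] by decide +kernel, show chevB2.chainCoeff 5 1 2 = [] by decide +kernel]
  simp

theorem row_x6 (t : F) (B : Matrix chevB2.Idx chevB2.Idx F) (j : chevB2.Idx) :
    (chevB2.x F 6 t * B) (Sum.inr ⟨2, by decide⟩) j = B (Sum.inr ⟨2, by decide⟩) j + t * B (Sum.inr ⟨0, by decide⟩) j := by
  have e := row_gen (F := F) (r := 6) (u := 2) (a := 0) (b := 3) (by decide) (by decide) (by decide) (by decide)
    (by decide) (by decide) (by decide) (by decide +kernel) (by decide) (by decide +kernel) (by decide +kernel) t B j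
  rw [e]
  rw [show chevB2.chainCoeff 6 0 2 = [(1, 1)] by decide +kernel, show chevB2.chainCoeff 6 3 2 = [] by decide +kernel]
  simp

theorem x7_20 (s : F) : chevB2.x F 7 s (Sum.inr ⟨2, by decide⟩) (Sum.inr ⟨0, by decide⟩) = 0 := by
  have hx : chevB2.x F 7 s = chevB2.xMat F ⟨7, by decide⟩ s := by
    unfold ChevalleyDatum.x
    exact dif_pos (by decide)
  rw [hx]
  show (if (⟨0, by decide⟩ : Fin chevB2.nroots) = (⟨7, by decide⟩ : Fin chevB2.nroots) then (if (⟨2, by decide⟩ : Fin chevB2.nroots) = (⟨7, by decide⟩ : Fin chevB2.nroots) then (1 : F) else 0)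
    else if ((⟨0, by decide⟩ : Fin chevB2.nroots) : ℕ) = chevB2.negIdx.getD 7 0 then (if (⟨2, by decide⟩ : Fin chevB2.nroots) = (⟨0, by decide⟩ : Fin chevB2.nroots) then (1 : F) else if (⟨2, by decide⟩ : Fin chevB2.nroots) = (⟨7, by decide⟩ : Fin chevB2.nroots) then -(s ^ 2) else 0)
    else (if (⟨2, by decide⟩ : Fin chevB2.nroots) = (⟨0, by decide⟩ : Fin chevB2.nroots) then 1 else 0) + ((chevB2.chainCoeff 7 0 2).map fun km => ((km.2 : ℤ) : F) * s ^ km.1).sum) = _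
  rw [if_neg (by decide), if_pos (by decide +kernel), if_neg (by decide), if_neg (by decide)]

theorem x7_00 (s : F) : chevB2.x F 7 s (Sum.inr ⟨0, by decide⟩) (Sum.inr ⟨0, by decide⟩) = 1 := by
  have hx : chevB2.x F 7 s = chevB2.xMat F ⟨7, by decide⟩ s := by
    unfold ChevalleyDatum.x
    exact dif_pos (by decide)
  rw [hx]
  show (if (⟨0, by decide⟩ : Fin chevB2.nroots) = (⟨7, by decide⟩ : Fin chevB2.nroots) then (if (⟨0, by decide⟩ : Fin chevB2.nroots) = (⟨7, by decide⟩ : Fin chevB2.nroots) then (1 : F) else 0)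
    else if ((⟨0, by decide⟩ : Fin chevB2.nroots) : ℕ) = chevB2.negIdx.getD 7 0 then (if (⟨0, by decide⟩ : Fin chevB2.nroots) = (⟨0, by decide⟩ : Fin chevB2.nroots) then (1 : F) else if (⟨0, by decide⟩ : Fin chevB2.nroots) = (⟨7, by decide⟩ : Fin chevB2.nroots) then -(s ^ 2) else 0)
    else (if (⟨0, by decide⟩ : Fin chevB2.nroots) = (⟨0, by decide⟩ : Fin chevB2.nroots) then 1 else 0) + ((chevB2.chainCoeff 7 0 0).map fun km => ((km.2 : ℤ) : F) * s ^ km.1).sum) = _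
  rw [if_neg (by decide), if_pos (by decide +kernel), if_pos rfl]

/-- `x_4` fixes the lowest weight vector. -/
theorem x4_col (y : F) (k : chevB2.Idx) :
    chevB2.x F 4 y k (Sum.inr ⟨0, by decide⟩) = if k = Sum.inr ⟨0, by decide⟩ then 1 else 0 := by
  classical
  cases k with
  | inl i =>
    have hx : chevB2.x F 4 y = chevB2.xMat F ⟨4, by decide⟩ y := by
      unfold ChevalleyDatum.x
      exact dif_pos (by decide)
    rw [hx]
    have h1 : (⟨0, by decide⟩ : Fin chevB2.nroots) ≠ ⟨4, by decide⟩ := by decide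
    have h2 : ((⟨0, by decide⟩ : Fin chevB2.nroots) : ℕ) ≠ chevB2.negIdx.getD 4 0 := by decide +kernel
    show (if (⟨0, by decide⟩ : Fin chevB2.nroots) = (⟨4, by decide⟩ : Fin chevB2.nroots) then (0 : F)
      else if ((⟨0, by decide⟩ : Fin chevB2.nroots) : ℕ) = chevB2.negIdx.getD 4 0 then
        (((chevB2.coroot.getD 4 #[]).getD i.val 0 : ℤ) : F) * y else 0) = _
    rw [if_neg h1, if_neg h2]
    simp
  | inr u =>
    rw [x_gen_entry hF (r := 4) (by decide) y (by decide) (by decide +kernel)]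
    have h : ∀ u < chevB2.nroots, chevB2.chainCoeff 4 0 u = [] := by decide +kernel
    have e : chevB2.chainCoeff 4 (⟨0, by decide⟩ : Fin chevB2.nroots) u = [] := h u u.2
    rw [e]
    simp

theorem mul_x4_entry (q : GL chevB2.Idx F) (y : F) (j : chevB2.Idx) :
    ((q * x 4 y : GL chevB2.Idx F) : Matrix chevB2.Idx chevB2.Idx F) j (Sum.inr ⟨0, by decide⟩) =
      (q : Matrix chevB2.Idx chevB2.Idx F) j (Sum.inr ⟨0, by decide⟩) := by
  classical
  rw [Units.val_mul, Matrix.mul_apply, Checks.coe_xG]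
  simp only [x4_col]
  simp

theorem eq_x4 {a : GL chevB2.Idx F} (ha : a ∈ rootClosure chevB2 F (fun r => r = 4)) : ∃ y : F, a = x 4 y := by
  unfold rootClosure at ha
  induction ha using Subgroup.closure_induction with
  | mem g hg =>
    obtain ⟨r, t, rfl, hg⟩ := hg
    exact ⟨t, hF.c.eq_xG hg⟩
  | one => exact ⟨0, by simp⟩
  | mul a b _ _ ha hb =>
    obtain ⟨z, rfl⟩ := ha
    obtain ⟨z', rfl⟩ := hb
    exact ⟨z + z', hF.c.xG_add _ _ _⟩
  | inv a _ ha =>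
    obtain ⟨z, rfl⟩ := ha
    exact ⟨-z, hF.c.xG_inv _ _⟩

/-- The entry of the second coordinate. -/
theorem q_entry2 (z w s : F) :
    ((x 5 z * x 6 w * x 7 s : GL chevB2.Idx F) : Matrix chevB2.Idx chevB2.Idx F) (Sum.inr ⟨2, by decide⟩) (Sum.inr ⟨0, by decide⟩) = w := by
  rw [mul_assoc, Units.val_mul, Units.val_mul, Checks.coe_xG, Checks.coe_xG, Checks.coe_xG, row_x5, row_x6, x7_20, x7_00]
  ring

theorem q_entry1 (z w s : F) :
    ((x 5 z * x 6 w * x 7 s : GL chevB2.Idx F) : Matrix chevB2.Idx chevB2.Idx F) (Sum.inr ⟨1, by decide⟩) (Sum.inr ⟨0, by decide⟩) = -z := by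
  rw [mul_assoc]
  exact split_entry hF etab0 z (q := x 6 w * x 7 s) (mul_mem (mem_Q5 (by decide) (by decide +kernel) _) (mem_Q5 (by decide) (by decide +kernel) _))

/-- The algebra. -/
theorem kf {c d y1 y2 : F} (f : F ≃+* F) (h2 : (2 : F) ≠ 0) (hc : c ^ 2 = -1)
    (h1 : f y1 = y1 ∨ y1 ^ 2 = -1) (h3 : f y2 = y2 ∨ y2 ^ 2 = -1)
    (hd : y1 - y2 = 4 * (d * c)) : ∃ α β : F, f α = α ∧ f β = β ∧ d = α + β * c := by
  have key : ∀ y : F, (f y = y ∨ y ^ 2 = -1) → ∃ a b : F, f a = a ∧ f b = b ∧ y = a + b * c := by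
    intro y hy
    rcases hy with hy | hy
    · exact ⟨y, 0, hy, map_zero f, by ring⟩
    · have h4 : (y - c) * (y + c) = 0 := by linear_combination hy - hc
      rcases mul_eq_zero.1 h4 with h5 | h5
      · exact ⟨0, 1, map_zero f, map_one f, by linear_combination h5⟩
      · exact ⟨0, -1, map_zero f, by simp, by linear_combination h5⟩
  obtain ⟨a1, b1, ha1, hb1, e1⟩ := key y1 h1
  obtain ⟨a2, b2, ha2, hb2, e2⟩ := key y2 h3
  have h4 : (4 : F) ≠ 0 := by
    have : (4 : F) = 2 * 2 := by norm_num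
    rw [this]
    exact mul_ne_zero h2 h2
  have hf4 : f 4 = 4 := map_ofNat f 4
  refine ⟨(b1 - b2) / 4, -(a1 - a2) / 4, ?_, ?_, ?_⟩
  · rw [map_div₀, map_sub, hb1, hb2, hf4]
  · rw [map_div₀, map_neg, map_sub, ha1, ha2, hf4]
  · have h5 : 4 * d = (b1 - b2) - (a1 - a2) * c := by
      rw [e1, e2] at hd
      linear_combination c * hd + (4 * d - (b1 - b2)) * hc
    rw [show (b1 - b2) / 4 + -(a1 - a2) / 4 * c = ((b1 - b2) - (a1 - a2) * c) / 4 by ring, ← h5]
    field_simp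
end rows

include hM hNS

/-- The final case: no middle coordinate. -/
theorem exc_final' {c z s : F} (hy : (x 5 z * x 7 s) * x 0 c * (x 5 z * x 7 s)⁻¹ ∈ H) : f c = c := by
  set v := x 5 z * x 7 s with hv
  have h51 : x 5 (1 : F) ∈ H := x_rat hF f H hM (by decide) (map_one f)
  have hc : x 5 1 * v = v * x 5 1 := by
    rw [hv]
    have h1 : x 5 (1 : F) * x 5 z = x 5 z * x 5 1 := by
      rw [hF.c.xG_add, hF.c.xG_add, add_comm]
    have h2 := c57 (1 : F) s
    calc x 5 1 * (x 5 z * x 7 s) = (x 5 1 * x 5 z) * x 7 s := by group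
      _ = x 5 z * (x 5 1 * x 7 s) := by rw [h1]; group
      _ = x 5 z * (x 7 s * x 5 1) := by rw [h2]
      _ = _ := by group
  have hw : v * (x 1 (-c) * x 3 (-c)) * v⁻¹ ∈ H := by
    have h5 := mul_mem (mul_mem (mul_mem h51 hy) (inv_mem h51)) (inv_mem hy)
    have e5 : x 5 1 * (v * x 0 c * v⁻¹) * (x 5 1)⁻¹ * (v * x 0 c * v⁻¹)⁻¹ =
        (x 5 1 * v) * x 0 c * (x 5 1 * v)⁻¹ * v * (x 0 c)⁻¹ * v⁻¹ := by group
    rw [e5, hc] at h5
    have e6 : v * x 5 1 * x 0 c * (v * x 5 1)⁻¹ * v * (x 0 c)⁻¹ * v⁻¹ =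
        v * (x 5 1 * x 0 c * (x 5 1)⁻¹ * (x 0 c)⁻¹) * v⁻¹ := by group
    rw [e6, Cfsg.Agent.Lib.ChevSub.B2.inner] at h5
    exact h5
  -- conjugate by the Weyl element
  set n := hF.nS (F := F) 0 * hF.nS (F := F) 1 with hn
  have hnH : n ∈ H := mul_mem (nS_mem hF f H hM (by decide)) (nS_mem hF f H hM (by decide))
  have hconj : ∀ r < chevB2.nroots, ∀ t : F, n * x r t * n⁻¹ =
      x (X.wf 0 (X.wf 1 r)) (((X.eta 0 (X.wf 1 r) : ℤ) : F) * (((X.eta 1 r : ℤ) : F) * t)) := by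
    intro r hr t
    have h1 := hF.nS_conj_xG (F := F) (i := 1) (by decide) hr t
    have h2 := hF.nS_conj_xG (F := F) (i := 0) (s := X.wf 1 r) (by decide) (hF.wf_lt (by decide) hr)
      (((X.eta 1 r : ℤ) : F) * t)
    rw [← h1] at h2
    rw [← h2, hn]
    group
  have w5 : X.wf 0 (X.wf 1 5) = 6 := by decide +kernel
  have w7 : X.wf 0 (X.wf 1 7) = 4 := by decide +kernel
  have w1 : X.wf 0 (X.wf 1 1) = 5 := by decide +kernel
  have w3 : X.wf 0 (X.wf 1 3) = 7 := by decide +kernel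
  have hconj5 := hconj 5 (by decide)
  have hconj7 := hconj 7 (by decide)
  have hconj1 := hconj 1 (by decide)
  have hconj3 := hconj 3 (by decide)
  rw [w5] at hconj5
  rw [w7] at hconj7
  rw [w1] at hconj1
  rw [w3] at hconj3
  set e1 : F := ((X.eta 0 (X.wf 1 1) : ℤ) : F) * ((X.eta 1 1 : ℤ) : F) with he1
  have he1ne : e1 ≠ 0 := mul_ne_zero (hF.eta_ne (by decide) (hF.wf_lt (by decide) (by decide)))
    (hF.eta_ne (by decide) (by decide))
  have hfe1 : f e1 = e1 := by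
    rw [he1, map_mul, map_intCast, map_intCast]
  set α : F := e1 * (-c) with hα
  set Q := rootClosure chevB2 F (QU chevB2 {0}) with hQ
  -- the conjugates
  have hv' : n * v * n⁻¹ ∈ Q := by
    have e : n * v * n⁻¹ = (n * x 5 z * n⁻¹) * (n * x 7 s * n⁻¹) := by
      rw [hv]
      group
    rw [e, hconj5, hconj7]
    exact mul_mem (mem_Q5 (by decide) (by decide +kernel) _) (mem_Q5 (by decide) (by decide +kernel) _)
  have hB : n * (x 1 (-c) * x 3 (-c)) * n⁻¹ = x 5 α * x 7 (((X.eta 0 (X.wf 1 3) : ℤ) : F) * (((X.eta 1 3 : ℤ) : F) * -c)) := by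
    have e : n * (x 1 (-c) * x 3 (-c)) * n⁻¹ = (n * x 1 (-c) * n⁻¹) * (n * x 3 (-c) * n⁻¹) := by group
    rw [e, hconj1, hconj3, hα, he1, mul_assoc]
  set β : F := ((X.eta 0 (X.wf 1 3) : ℤ) : F) * (((X.eta 1 3 : ℤ) : F) * -c) with hβ
  have hβQ : x 7 β ∈ Q := mem_Q5 (by decide) (by decide +kernel) _
  have he : n * (v * (x 1 (-c) * x 3 (-c)) * v⁻¹) * n⁻¹ ∈ H := mul_mem (mul_mem hnH hw) (inv_mem hnH)
  set q0 := n * v * n⁻¹ with hq0
  have e7 : n * (v * (x 1 (-c) * x 3 (-c)) * v⁻¹) * n⁻¹ = q0 * (x 5 α * x 7 β) * q0⁻¹ := by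
    rw [← hB, hq0]
    group
  rw [e7] at he
  have hs0 : (5 : ℕ) < chevB2.nroots := by decide
  have hN5 : x 5 α * ((x 5 α)⁻¹ * q0 * x 5 α * x 7 β * q0⁻¹) = q0 * (x 5 α * x 7 β) * q0⁻¹ := by group
  have hq4 : (x 5 α)⁻¹ * q0 * x 5 α * x 7 β * q0⁻¹ ∈ Q := by
    refine mul_mem (mul_mem ?_ hβQ) (inv_mem hv')
    have h5 := (Subgroup.mem_normalizer_iff.1 (hF.xG_mem_normalizer_UJ (J := {0}) (r := 5)
      (Or.inl ((hF.isPos_iff).2 ⟨hs0, by decide⟩)) (-α)) q0).1 hv'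
    have e1' := hF.c.xG_inv 5 α
    have e2' : (x 5 (-α))⁻¹ = x 5 α := by rw [← e1', inv_inv]
    rw [e2'] at h5
    rw [e1']
    exact h5
  have hQU : Q ≤ chevB2.posUnipotent F := by
    rw [hQ, ← unipotentRadical_eq]
    exact hF.radical_le_U _
  have hU5 : x 5 α ∈ chevB2.posUnipotent F := hF.xG_mem_U hs0 (by decide) α
  have hfix := hNS _ he (by
    rw [← hN5]
    exact mul_mem hU5 (hQU hq4))
  rw [← hN5] at hfix
  have h8 : f α = α := coord_fixed hF etab0 f (d := α) hq4 hfix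
  rw [hα, map_mul, hfe1, map_neg] at h8
  have h9 := mul_left_cancel₀ he1ne h8
  exact neg_injective h9

omit hM hNS in
/-- The form of the elements of the radical. -/
theorem Q1_form' {q : GL chevB2.Idx F} (hq : q ∈ rootClosure chevB2 F (QU chevB2 {1})) :
    ∃ z w s : F, q = x 5 z * x 6 w * x 7 s := by
  have hroots : ∀ r, QU chevB2 {1} r → r = 5 ∨ r = 6 ∨ r = 7 := by
    rintro r ⟨h1, h2⟩
    obtain ⟨h3, h4⟩ := (hF.isPos_iff).1 h1
    have h3' : r < 8 := h3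
    have h4' : 4 ≤ r := h4
    have : r ≠ 4 := by
      rintro rfl
      apply h2
      rw [hF.inRootSub_iff]
      refine ⟨by decide, ?_⟩
      intro i hi hiJ
      have : i = 0 := by
        have hi' : i < 2 := hi
        have : i ≠ 1 := hiJ
        omega
      subst this
      decide +kernel
    omega
  have key : ∀ r, QU chevB2 {1} r → ∀ (t z w s : F), ∃ z' w' s' : F,
      x r t * (x 5 z * x 6 w * x 7 s) = x 5 z' * x 6 w' * x 7 s' := by
    intro r hr t z w s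
    rcases hroots r hr with rfl | rfl | rfl
    · refine ⟨t + z, w, s, ?_⟩
      rw [← hF.c.xG_add]
      group
    · refine ⟨z, t + w, -(2 * z * t) + s, ?_⟩
      have h1 := comm56 z t
      rw [← hF.c.xG_add (r := 6) t w, ← hF.c.xG_add (r := 7) (-(2 * z * t)) s]
      have h2 := c67 w (-(2 * z * t))
      calc x 6 t * (x 5 z * x 6 w * x 7 s) = (x 6 t * x 5 z) * x 6 w * x 7 s := by group
        _ = x 5 z * x 6 t * (x 7 (-(2 * z * t)) * x 6 w) * x 7 s := by rw [h1]; group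
        _ = x 5 z * x 6 t * (x 6 w * x 7 (-(2 * z * t))) * x 7 s := by rw [h2]
        _ = _ := by group
    · refine ⟨z, w, t + s, ?_⟩
      have h1 := c57 z t
      have h2 := c67 w t
      rw [← hF.c.xG_add (r := 7) t s]
      calc x 7 t * (x 5 z * x 6 w * x 7 s) = (x 7 t * x 5 z) * x 6 w * x 7 s := by group
        _ = x 5 z * (x 7 t * x 6 w) * x 7 s := by rw [h1]; group
        _ = x 5 z * (x 6 w * x 7 t) * x 7 s := by rw [h2]
        _ = _ := by group
  unfold rootClosure at hq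
  induction hq using Subgroup.closure_induction_left with
  | one => exact ⟨0, 0, 0, by simp⟩
  | mul_left g hg y _ ih =>
    obtain ⟨r, t, hr, hg⟩ := hg
    obtain ⟨z, w, s, rfl⟩ := ih
    rw [hF.c.eq_xG hg]
    exact key r hr t z w s
  | inv_mul_cancel g hg y _ ih =>
    obtain ⟨r, t, hr, hg⟩ := hg
    obtain ⟨z, w, s, rfl⟩ := ih
    rw [hF.c.eq_xG hg, hF.c.xG_inv]
    exact key r hr (-t) z w s

/-- The exceptional case for `B₂`. -/
theorem exc_b2' [Finite ↥H] [IsAlgClosed F] {p : ℕ} [Fact p.Prime] [CharP F p] (hm : ChevMonoN.checkMono T X chevB2 = true) (h2 : (2 : F) ≠ 0)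
    (hHG : H ≤ chevB2.group F) (h0 : 0 < chevB2.nroots) (h7 : 7 < chevB2.nroots)
    {xx : GL chevB2.Idx F} (hx : xx ∈ H)
    (hc2 : ((xx : Matrix chevB2.Idx chevB2.Idx F) (Sum.inr ⟨0, h0⟩) (Sum.inr ⟨7, h7⟩)) ^ 2 = -1)
    (hfc : f ((xx : Matrix chevB2.Idx chevB2.Idx F) (Sum.inr ⟨0, h0⟩) (Sum.inr ⟨7, h7⟩)) ≠
      (xx : Matrix chevB2.Idx chevB2.Idx F) (Sum.inr ⟨0, h0⟩) (Sum.inr ⟨7, h7⟩)) : False := by
  have hmax : ∀ s < chevB2.nroots, s ≤ 7 := by
    intro s hs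
    have hs' : s < 8 := hs
    omega
  have hpos : R.N ≤ 7 := by decide +kernel
  have hbot : chevB2.neg 7 = 0 := by decide +kernel
  obtain ⟨u, hu, n, hn, u', hu', σ, ν, e, h1, h3, hconj, hcol⟩ :=
    exists_top_form hF h7 hmax hpos hm (hHG hx)
  set c := (xx : Matrix chevB2.Idx chevB2.Idx F) (Sum.inr ⟨0, h0⟩) (Sum.inr ⟨7, h7⟩) with hc
  have hcu : c = (u : Matrix chevB2.Idx chevB2.Idx F) (Sum.inr ⟨0, h0⟩) (Sum.inr (σ ⟨7, h7⟩)) * (ν ⟨7, h7⟩ : F) :=
    hcol _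
  rw [U_row_bot hF h7 hmax hpos hbot hu] at hcu
  have hs : σ ⟨7, h7⟩ = ⟨0, h0⟩ := by
    by_contra hne
    have hne' : ¬ ((Sum.inr (σ ⟨7, h7⟩) : chevB2.Idx) = Sum.inr ⟨0, h0⟩) := fun e => hne (Sum.inr.inj e)
    rw [if_neg hne', zero_mul] at hcu
    apply hfc
    rw [hcu, map_zero]
  rw [hs, if_pos rfl, one_mul] at hcu
  have hy0 : u * x 0 c * u⁻¹ ∈ H := by
    have h5 := mul_mem (mul_mem hx (x_rat hF f H hM h7 (map_one f))) (inv_mem hx)
    rw [hconj 1, hs, ← hcu, mul_one] at h5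
    exact h5
  -- the Levi factor
  obtain ⟨q, hq, a, ha, rfl⟩ := hF.exists_factor (QU chevB2 {1}) (fun r => r = 4) (by
    intro r hr
    by_cases h : r = 4
    · exact Or.inr h
    · refine Or.inl ⟨hr, ?_⟩
      intro h5
      obtain ⟨h6, h8⟩ := (hF.inRootSub_iff).1 h5
      obtain ⟨h9, h10⟩ := (hF.isPos_iff).1 hr
      have h11 := h8 0 (by decide) (by simp)
      apply h
      have h6' : r < 8 := h6
      have h10' : 4 ≤ r := h10
      interval_cases r
      · rfl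
      · exact absurd h11 (by decide +kernel)
      · exact absurd h11 (by decide +kernel)
      · exact absurd h11 (by decide +kernel)) hu
  have hacomm : a * x 0 c = x 0 c * a := by
    have hle : rootClosure chevB2 F (fun r => r = 4) ≤ Subgroup.centralizer {x 0 c} := by
      rw [rootClosure, Subgroup.closure_le]
      rintro g ⟨s, t, rfl, hg⟩
      rw [SetLike.mem_coe, Subgroup.mem_centralizer_singleton_iff, hF.c.eq_xG hg]
      exact c04 c t
    exact Subgroup.mem_centralizer_singleton_iff.1 (hle ha)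
  have hy1 : q * x 0 c * q⁻¹ ∈ H := by
    have e5 : q * a * x 0 c * (q * a)⁻¹ = q * (a * x 0 c) * a⁻¹ * q⁻¹ := by group
    rw [e5, hacomm] at hy0
    have e6 : q * (x 0 c * a) * a⁻¹ * q⁻¹ = q * x 0 c * q⁻¹ := by group
    rwa [e6] at hy0
  obtain ⟨z, w, s, rfl⟩ := Q1_form' hq
  obtain ⟨y, rfl⟩ := eq_x4 ha
  -- the coordinates of the column
  have hcolq : ∀ j, (xx : Matrix chevB2.Idx chevB2.Idx F) j (Sum.inr ⟨7, h7⟩) =
      ((x 5 z * x 6 w * x 7 s : GL chevB2.Idx F) : Matrix chevB2.Idx chevB2.Idx F) j (Sum.inr ⟨0, h0⟩) * c := by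
    intro j
    have h5 := hcol j
    rw [hs, ← hcu] at h5
    rw [h5, mul_x4_entry]
  have hdich : ∀ {r : ℕ} (hr : r < chevB2.nroots) {τ : F}, f τ = τ →
      f (((x r τ * xx : GL chevB2.Idx F) : Matrix chevB2.Idx chevB2.Idx F) (Sum.inr ⟨0, h0⟩) (Sum.inr ⟨7, h7⟩)) =
        ((x r τ * xx : GL chevB2.Idx F) : Matrix chevB2.Idx chevB2.Idx F) (Sum.inr ⟨0, h0⟩) (Sum.inr ⟨7, h7⟩) ∨
      (((x r τ * xx : GL chevB2.Idx F) : Matrix chevB2.Idx chevB2.Idx F) (Sum.inr ⟨0, h0⟩) (Sum.inr ⟨7, h7⟩)) ^ 2 = -1 := by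
    intro r hr τ hτ
    rcases entry_dichotomy' hF h7 hmax hpos f H hHG hM hNS (p := p) hm h2 h0 hbot (mul_mem (x_rat hF f H hM hr hτ) hx) with h5 | ⟨h5, -⟩
    · exact Or.inl h5
    · exact Or.inr h5
  have h1E : (xx : Matrix chevB2.Idx chevB2.Idx F) (Sum.inr ⟨1, by decide⟩) (Sum.inr ⟨7, h7⟩) = -z * c := by
    rw [hcolq, q_entry1]
  have h2E : (xx : Matrix chevB2.Idx chevB2.Idx F) (Sum.inr ⟨2, by decide⟩) (Sum.inr ⟨7, h7⟩) = w * c := by
    rw [hcolq, q_entry2]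
  have hK1 : ∃ α β : F, f α = α ∧ f β = β ∧ z = α + β * c := by
    have e1 := hdich (r := 2) (by decide) (τ := 1) (map_one f)
    have e2 := hdich (r := 2) (by decide) (τ := -1) (by simp)
    apply kf f h2 hc2 e1 e2
    rw [Units.val_mul, Units.val_mul, Checks.coe_xG, Checks.coe_xG, row_x2, row_x2, h1E]
    ring
  have hK2 : ∃ α β : F, f α = α ∧ f β = β ∧ w = α + β * c := by
    have e1 := hdich (r := 1) (by decide) (τ := 1) (map_one f)
    have e2 := hdich (r := 1) (by decide) (τ := -1) (by simp)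
    apply kf f h2 hc2 e1 e2
    rw [Units.val_mul, Units.val_mul, Checks.coe_xG, Checks.coe_xG, row_x1, row_x1, h2E]
    ring
  obtain ⟨α1, β1, hα1, hβ1, hz⟩ := hK1
  obtain ⟨α2, β2, hα2, hβ2, hw⟩ := hK2
  -- the rational shift
  have hr1 : x 5 (-α1) * x 6 (-α2) ∈ H :=
    mul_mem (x_rat hF f H hM (by decide) (by rw [map_neg, hα1]))
      (x_rat hF f H hM (by decide) (by rw [map_neg, hα2]))
  have hshift : x 5 (-α1) * x 6 (-α2) * (x 5 z * x 6 w * x 7 s) =
      x 5 (β1 * c) * x 6 (β2 * c) * x 7 (-(2 * z * -α2) + s) := by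
    have h5 := comm56 z (-α2)
    have h6 := c67 w (-(2 * z * -α2))
    have e7 : β1 * c = -α1 + z := by rw [hz]; ring
    have e8 : β2 * c = -α2 + w := by rw [hw]; ring
    rw [e7, e8, ← hF.c.xG_add, ← hF.c.xG_add (r := 6), ← hF.c.xG_add (r := 7)]
    calc x 5 (-α1) * x 6 (-α2) * (x 5 z * x 6 w * x 7 s)
        = x 5 (-α1) * (x 6 (-α2) * x 5 z) * x 6 w * x 7 s := by group
      _ = x 5 (-α1) * x 5 z * x 6 (-α2) * (x 7 (-(2 * z * -α2)) * x 6 w) * x 7 s := by rw [h5]; group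
      _ = x 5 (-α1) * x 5 z * x 6 (-α2) * (x 6 w * x 7 (-(2 * z * -α2))) * x 7 s := by rw [h6]
      _ = _ := by group
  set s1 := -(2 * z * -α2) + s with hs1
  have hy2 : (x 5 (β1 * c) * x 6 (β2 * c) * x 7 s1) * x 0 c * (x 5 (β1 * c) * x 6 (β2 * c) * x 7 s1)⁻¹ ∈ H := by
    have h5 := mul_mem (mul_mem hr1 hy1) (inv_mem hr1)
    rw [← hshift]
    have e7 : x 5 (-α1) * x 6 (-α2) * (x 5 z * x 6 w * x 7 s) * x 0 c * (x 5 (-α1) * x 6 (-α2) * (x 5 z * x 6 w * x 7 s))⁻¹ =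
        x 5 (-α1) * x 6 (-α2) * (x 5 z * x 6 w * x 7 s * x 0 c * (x 5 z * x 6 w * x 7 s)⁻¹) * (x 5 (-α1) * x 6 (-α2))⁻¹ := by group
    rw [e7]
    exact h5
  apply hfc
  by_cases hβ10 : β1 = 0
  · -- the swap
    rw [hβ10, zero_mul, hF.c.xG_zero, one_mul] at hy2
    have hn1 : hF.nS (F := F) 1 ∈ H := nS_mem hF f H hM (by decide)
    have h5 := mul_mem (mul_mem hn1 hy2) (inv_mem hn1)
    have e61 := hF.nS_conj_xG (F := F) (i := 1) (s := 6) (by decide) (by decide) (β2 * c)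
    have e71 := hF.nS_conj_xG (F := F) (i := 1) (s := 7) (by decide) (by decide) s1
    have e01 := hF.nS_conj_xG (F := F) (i := 1) (s := 0) (by decide) (by decide) c
    have w16 : X.wf 1 6 = 5 := by decide +kernel
    have w10 : X.wf 1 0 = 0 := by decide +kernel
    rw [w16] at e61
    rw [w17] at e71
    rw [w10] at e01
    set n1 := hF.nS (F := F) 1 with hn1d
    have e7 : n1 * (x 6 (β2 * c) * x 7 s1 * x 0 c * (x 6 (β2 * c) * x 7 s1)⁻¹) * n1⁻¹ =
        ((n1 * x 6 (β2 * c) * n1⁻¹) * (n1 * x 7 s1 * n1⁻¹)) * (n1 * x 0 c * n1⁻¹) *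
          ((n1 * x 6 (β2 * c) * n1⁻¹) * (n1 * x 7 s1 * n1⁻¹))⁻¹ := by group
    rw [e7, e61, e71, e01] at h5
    have h6 := exc_final' f H hM hNS h5
    rw [map_mul, map_intCast] at h6
    exact mul_left_cancel₀ (hF.eta_ne (by decide) (by decide)) h6
  · -- the Levi element
    set t : F := -(β2 / β1) with ht
    have hft : f t = t := by rw [ht, map_neg, map_div₀, hβ1, hβ2]
    have hx4 : x 4 t ∈ H := x_rat hF f H hM (by decide) hft
    have hcm := comm45 (-t) (β1 * c)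
    have e1 : x 4 t * x 5 (β1 * c) * (x 4 t)⁻¹ = x 5 (β1 * c) * (x 6 (-(-t * (β1 * c))) * x 7 (-t * (β1 * c) ^ 2)) := by
      have e2 : (x 4 t)⁻¹ = x 4 (-t) := hF.c.xG_inv _ _
      have e3 : x 4 t * x 4 (-t) = 1 := by
        rw [hF.c.xG_add, add_neg_cancel, hF.c.xG_zero]
      rw [e2, mul_assoc, hcm]
      calc x 4 t * (x 4 (-t) * x 5 (β1 * c) * (x 6 (-(-t * (β1 * c))) * x 7 (-t * (β1 * c) ^ 2)))
          = (x 4 t * x 4 (-t)) * x 5 (β1 * c) * (x 6 (-(-t * (β1 * c))) * x 7 (-t * (β1 * c) ^ 2)) := by group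
        _ = _ := by rw [e3, one_mul]
    have e2 : x 4 t * x 6 (β2 * c) * (x 4 t)⁻¹ = x 6 (β2 * c) := by
      rw [← c46 t (β2 * c)]
      group
    have e3 : x 4 t * x 7 s1 * (x 4 t)⁻¹ = x 7 s1 := by
      rw [← c47 t s1]
      group
    have e4 : x 4 t * x 0 c * (x 4 t)⁻¹ = x 0 c := by
      rw [c04 c t]
      group
    have h5 := mul_mem (mul_mem hx4 hy2) (inv_mem hx4)
    have e7 : x 4 t * (x 5 (β1 * c) * x 6 (β2 * c) * x 7 s1 * x 0 c * (x 5 (β1 * c) * x 6 (β2 * c) * x 7 s1)⁻¹) * (x 4 t)⁻¹ =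
        ((x 4 t * x 5 (β1 * c) * (x 4 t)⁻¹) * (x 4 t * x 6 (β2 * c) * (x 4 t)⁻¹) * (x 4 t * x 7 s1 * (x 4 t)⁻¹)) * (x 4 t * x 0 c * (x 4 t)⁻¹) *
          ((x 4 t * x 5 (β1 * c) * (x 4 t)⁻¹) * (x 4 t * x 6 (β2 * c) * (x 4 t)⁻¹) * (x 4 t * x 7 s1 * (x 4 t)⁻¹))⁻¹ := by group
    rw [e7, e1, e2, e3, e4] at h5
    have e8 : x 5 (β1 * c) * (x 6 (-(-t * (β1 * c))) * x 7 (-t * (β1 * c) ^ 2)) * x 6 (β2 * c) * x 7 s1 =
        x 5 (β1 * c) * x 7 (-t * (β1 * c) ^ 2 + s1) := by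
      have e9 : -(-t * (β1 * c)) + β2 * c = 0 := by
        rw [ht]
        field_simp
        ring
      have e10 := c67 (β2 * c) (-t * (β1 * c) ^ 2)
      rw [← hF.c.xG_add 7 (-t * (β1 * c) ^ 2) s1]
      calc x 5 (β1 * c) * (x 6 (-(-t * (β1 * c))) * x 7 (-t * (β1 * c) ^ 2)) * x 6 (β2 * c) * x 7 s1
          = x 5 (β1 * c) * x 6 (-(-t * (β1 * c))) * (x 7 (-t * (β1 * c) ^ 2) * x 6 (β2 * c)) * x 7 s1 := by group
        _ = x 5 (β1 * c) * (x 6 (-(-t * (β1 * c))) * x 6 (β2 * c)) * x 7 (-t * (β1 * c) ^ 2) * x 7 s1 := by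
          rw [e10]; group
        _ = _ := by
          rw [hF.c.xG_add, e9, hF.c.xG_zero]
          group
    rw [e8] at h5
    exact exc_final' f H hM hNS h5

end

end Cfsg.Agent.Lib.ChevSub2.B2
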