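import Mathlib
import Cfsg.Agent.Lib.ChevSub2.B2Close

/-!
# Type `B₂`: the elements of a finite overgroup at the highest root form a field
-/

set_option autoImplicit false
set_option linter.unusedSectionVars false
set_option linter.unusedVariables false
set_option linter.unnecessarySimpa false
set_option maxRecDepth 100000

namespace Cfsg.Agent.Lib.ChevSub2.B2

open Cfsg Cfsg.Lie Matrix Cfsg.Agent.Lib.Chev Cfsg.Agent.Lib.Chev.Full
open Cfsg.Agent.Lib.ChevTransfer Cfsg.Agent.Lib.ChevAut.SubField Cfsg.Agent.Lib.ChevInv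
open Cfsg.Agent.Lib.ChevSub Cfsg.Agent.Lib.ChevSub.B2 Cfsg.Agent.Lib.Chev.TabB2 Cfsg.Agent.Lib.Chev.RootB2T

section

variable {F : Type*} [Field F] (f : F ≃+* F) (H : Subgroup (GL chevB2.Idx F))
  (hM : Lf chevB2 f ≤ H)

local notation "x" => hF.c.xG

include hM

theorem v74' {t : F} : x 7 t ∈ H ↔ x 4 t ∈ H := by
  constructor
  · intro h
    have h1 := wf_mem hF f H hM (i := 0) (r := 7) (by decide) (by decide) h
    have e : X.wf 0 7 = 4 := by decide +kernel
    rwa [e] at h1
  · intro h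
    have h1 := wf_mem hF f H hM (i := 0) (r := 4) (by decide) (by decide) h
    rwa [w47] at h1

theorem v65' {t : F} : x 6 t ∈ H ↔ x 5 t ∈ H := by
  constructor
  · intro h
    have h1 := wf_mem hF f H hM (i := 1) (r := 6) (by decide) (by decide) h
    have e : X.wf 1 6 = 5 := by decide +kernel
    rwa [e] at h1
  · intro h
    have h1 := wf_mem hF f H hM (i := 1) (r := 5) (by decide) (by decide) h
    rwa [w45] at h1

/-- The odd characteristic case. -/
theorem b2_mul_odd {p : ℕ} (hp : Odd p) [CharP F p] {u0 v0 : F} (hu : x 7 u0 ∈ H) (hv : x 7 v0 ∈ H) : x 7 (u0 * v0) ∈ H := by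
  have hhalf : ∀ (V : AddSubgroup F) {t : F}, 2 * t ∈ V → t ∈ V := by
    intro V t h
    obtain ⟨k, hk⟩ := hp
    have h1 : (k + 1) • (2 * t) ∈ V := V.nsmul_mem h _
    have h2 : (k + 1) • (2 * t) = t := by
      have h3 : ((p : ℕ) : F) = 0 := CharP.cast_eq_zero F p
      rw [hk] at h3
      push_cast at h3
      rw [nsmul_eq_mul]
      push_cast
      linear_combination t * h3
    rwa [h2] at h1
  have h1F : x 5 (1 : F) ∈ H := x_rat hF f H hM (by decide) (map_one f)
  have h1F' : x 5 (-1 : F) ∈ H := x_rat hF f H hM (by decide) (by simp)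
  have hAB : ∀ t : F, x 7 t ∈ H → x 6 t ∈ H := by
    intro t ht
    have ht4 := (v74' f H hM).1 ht
    have hw : ∀ u : F, x 5 u ∈ H → x 6 (-(t * u)) * x 7 (t * u ^ 2) ∈ H := by
      intro u hu
      have e := comm45 t u
      have e2 : x 6 (-(t * u)) * x 7 (t * u ^ 2) = (x 4 t * x 5 u)⁻¹ * (x 5 u * x 4 t) := by
        rw [e]
        group
      rw [e2]
      exact mul_mem (inv_mem (mul_mem ht4 hu)) (mul_mem hu ht4)
    have h2 := hw 1 h1F
    have h3 := hw (-1) h1F'
    have h4 := mul_mem h3 (inv_mem h2)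
    have e : x 6 (-(t * -1)) * x 7 (t * (-1) ^ 2) * (x 6 (-(t * 1)) * x 7 (t * 1 ^ 2))⁻¹ = x 6 (2 * t) := by
      have e1 : x 7 (t * (-1) ^ 2) = x 7 (t * 1 ^ 2) := by
        congr 1
        ring
      rw [e1]
      have e2 : x 6 (-(t * -1)) * x 7 (t * 1 ^ 2) * (x 6 (-(t * 1)) * x 7 (t * 1 ^ 2))⁻¹ =
          x 6 (-(t * -1)) * (x 6 (-(t * 1)))⁻¹ := by group
      rw [e2, hF.c.xG_inv, hF.c.xG_add]
      congr 1
      ring
    rw [e] at h4
    exact hhalf (Vs hF H 6) h4
  have hBB : ∀ t u : F, x 6 t ∈ H → x 6 u ∈ H → x 7 (t * u) ∈ H := by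
    intro t u ht hu
    have ht5 := (v65' f H hM).1 ht
    have e := comm56 t u
    have e2 : x 7 (-(2 * t * u)) = (x 5 t * x 6 u)⁻¹ * (x 6 u * x 5 t) := by
      rw [e]
      group
    have h2 : x 7 (-(2 * t * u)) ∈ H := by
      rw [e2]
      exact mul_mem (inv_mem (mul_mem ht5 hu)) (mul_mem hu ht5)
    have h3 := x_neg_mem H hF h2
    rw [_root_.neg_neg, mul_assoc] at h3
    exact hhalf (Vs hF H 7) h3
  exact hBB u0 v0 (hAB u0 hu) (hAB v0 hv)

omit hM in
/-- The inverse in a finite multiplicatively closed set. -/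
theorem inv_of_finite_set {S : Set F} (hfin : S.Finite) (hmul : ∀ a ∈ S, ∀ b ∈ S, a * b ∈ S) (h1 : (1 : F) ∈ S)
    {s : F} (hs0 : s ≠ 0) (hs : s ∈ S) : s⁻¹ ∈ S := by
  haveI : Finite S := hfin
  have hpow : ∀ n : ℕ, s ^ (n + 1) ∈ S := by
    intro n
    induction n with
    | zero => simpa using hs
    | succ n ih =>
      rw [pow_succ]
      exact hmul _ ih _ hs
  obtain ⟨i, j, hij, he⟩ := Finite.exists_ne_map_eq_of_infinite (fun n : ℕ => (⟨_, hpow n⟩ : S))
  have h2 : s ^ (i + 1) = s ^ (j + 1) := congrArg Subtype.val he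
  have key : ∀ {i j : ℕ}, i < j → s ^ (i + 1) = s ^ (j + 1) → s⁻¹ ∈ S := by
    intro i j hlt h2
    have h3 : s ^ (j - i) = 1 := by
      have h4 : s ^ (i + 1) * s ^ (j - i) = s ^ (i + 1) * 1 := by
        rw [← pow_add, mul_one, h2]
        congr 1
        omega
      exact mul_left_cancel₀ (pow_ne_zero _ hs0) h4
    have h5 : s⁻¹ = s ^ (j - i - 1) := by
      symm
      apply eq_inv_of_mul_eq_one_left
      rw [← pow_succ]
      rw [show j - i - 1 + 1 = j - i by omega]
      exact h3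
    rw [h5]
    rcases Nat.eq_zero_or_pos (j - i - 1) with h6 | h6
    · rw [h6, pow_zero]
      exact h1
    · have := hpow (j - i - 1 - 1)
      rwa [show j - i - 1 - 1 + 1 = j - i - 1 by omega] at this
  rcases lt_or_gt_of_ne hij with h | h
  · exact key h h2
  · exact key h h2.symm

section two

variable [CharP F 2] [Finite ↥H]

/-- The characteristic two case. -/
theorem b2_mul_two {u v : F} (hu : x 7 u ∈ H) (hv : x 7 v ∈ H) : x 7 (u * v) ∈ H := by
  have h20 : (2 : F) = 0 := CharTwo.two_eq_zero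
  have hAB : ∀ {u : F}, x 7 u ∈ H → x 6 u ∈ H := by
    intro u hu
    have h1 := CC_ll f H hM ((CC_zero_left H).2 hu) (map_one f)
    unfold CC at h1
    rw [mul_one, one_pow, mul_one] at h1
    have := mul_mem h1 (inv_mem hu)
    rwa [mul_inv_cancel_right] at this
  have hBA : ∀ {t : F}, x 6 t ∈ H → x 7 (t ^ 2) ∈ H := by
    intro t ht
    have := rule_l f H hM ((CC_zero_right H).2 ht)
    rwa [zero_add] at this
  have hmain : ∀ {u t : F}, x 7 u ∈ H → x 6 t ∈ H → x 7 (t ^ 2 * (u + u ^ 2)) ∈ H := by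
    intro u t hu ht
    have h4 := (v74' f H hM).1 hu
    have h5 := (v65' f H hM).1 ht
    have := rule_l f H hM (CC_mix H h4 h5)
    have e : u * t ^ 2 + (u * t) ^ 2 = t ^ 2 * (u + u ^ 2) := by ring
    rwa [e] at this
  have hVfin : ({t | x 7 t ∈ H} : Set F).Finite := by
    haveI : Finite ({t | x 7 t ∈ H} : Set F) := Finite.of_injective
      (fun t : ({t | x 7 t ∈ H} : Set F) => (⟨x 7 t, t.2⟩ : ↥H))
      (fun t t' h => Subtype.ext (hF.xG_param_inj (by decide) (congrArg (fun w : ↥H => (w : GL chevB2.Idx F)) h)))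
    exact Set.toFinite _
  -- square roots
  have hroot : ∀ {a : F}, x 7 a ∈ H → ∃ b : F, x 7 b ∈ H ∧ b ^ 2 = a := by
    haveI : Finite ({t | x 7 t ∈ H} : Set F) := hVfin
    let φ : ({t | x 7 t ∈ H} : Set F) → ({t | x 7 t ∈ H} : Set F) := fun a => ⟨(a : F) ^ 2, hBA (hAB a.2)⟩
    have hφ : Function.Injective φ := by
      intro a b hab
      apply Subtype.ext
      exact sq_inj (congrArg Subtype.val hab)
    have hφ' := Finite.injective_iff_surjective.1 hφ
    intro a ha
    obtain ⟨b, hb⟩ := hφ' ⟨a, ha⟩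
    exact ⟨b, b.2, congrArg Subtype.val hb⟩
  have h1V : x 7 (1 : F) ∈ H := x_rat hF f H hM (by decide) (map_one f)
  -- multipliers
  let S : Set F := {z | ∀ a : F, x 7 a ∈ H → x 7 (z * a) ∈ H}
  have hSV : ∀ z ∈ S, x 7 z ∈ H := by
    intro z hz
    have := hz 1 h1V
    rwa [mul_one] at this
  have hS1 : (1 : F) ∈ S := by
    intro a ha
    rwa [one_mul]
  have hSmul : ∀ a ∈ S, ∀ b ∈ S, a * b ∈ S := by
    intro a ha b hb c hc
    rw [mul_assoc]
    exact ha _ (hb c hc)
  have hSadd : ∀ a ∈ S, ∀ b ∈ S, a + b ∈ S := by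
    intro a ha b hb c hc
    rw [add_mul]
    exact x_add_mem H hF (ha c hc) (hb c hc)
  have hSfin : S.Finite := hVfin.subset hSV
  have hP : ∀ {u : F}, x 7 u ∈ H → u + u ^ 2 ∈ S := by
    intro u hu a ha
    obtain ⟨b, hb, rfl⟩ := hroot ha
    have := hmain hu (hAB hb)
    rwa [mul_comm] at this
  have hkey : ∀ z ∈ S, ∀ {u : F}, x 7 u ∈ H → (z + z ^ 2) * u ∈ S := by
    intro z hz u hu
    have h1 := hP (hz u hu)
    have h2 := hSmul _ (hSmul _ hz _ hz) _ (hP hu)
    have h3 := hSadd _ h1 _ h2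
    have e : z * u + (z * u) ^ 2 + z * z * (u + u ^ 2) = (z + z ^ 2) * u := by
      linear_combination (z ^ 2 * u ^ 2) * h20
    rwa [e] at h3
  by_cases hA : ∃ z ∈ S, z + z ^ 2 ≠ 0
  · obtain ⟨z, hz, hw⟩ := hA
    have hwS : z + z ^ 2 ∈ S := hP (hSV z hz)
    have hwi := inv_of_finite_set hSfin hSmul hS1 hw hwS
    have hk := hSmul _ hwi _ (hkey z hz hu)
    rw [← mul_assoc, inv_mul_cancel₀ hw, one_mul] at hk
    exact hk v hv
  · push Not at hA
    have hP0 : ∀ {u : F}, x 7 u ∈ H → u = 0 ∨ u = 1 ∨ u ^ 2 + u = 1 := by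
      intro u hu
      have h1 := hA _ (hP hu)
      have h2 : (u + u ^ 2) * (u ^ 2 + u + 1) = 0 := by
        linear_combination h1
      rcases mul_eq_zero.1 h2 with h3 | h3
      · have h4 : u * (u + 1) = 0 := by linear_combination h3
        rcases mul_eq_zero.1 h4 with h5 | h5
        · exact Or.inl h5
        · right; left
          exact CharTwo.add_eq_zero.1 h5
      · right; right
        linear_combination h3 - h20
    rcases hP0 hu with rfl | rfl | hu2
    · rw [zero_mul, hF.c.xG_zero]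
      exact one_mem _
    · rwa [one_mul]
    rcases hP0 hv with rfl | rfl | hv2
    · rw [mul_zero, hF.c.xG_zero]
      exact one_mem _
    · rwa [mul_one]
    have h3 : (u + v) * (u + v + 1) = 0 := by
      linear_combination hu2 + hv2 + (1 + u * v) * h20
    rcases mul_eq_zero.1 h3 with h4 | h4
    · have h5 : u = v := CharTwo.add_eq_zero.1 h4
      subst h5
      have e : u * u = u + 1 := by linear_combination hu2 - u * h20
      rw [e]
      exact x_add_mem H hF hu h1V
    · have h5 : v = u + 1 := by linear_combination h4 + (-(u) - 1) * h20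
      subst h5
      have e : u * (u + 1) = 1 := by linear_combination hu2
      rw [e]
      exact h1V

end two

/-- The highest root elements of a finite overgroup form a field. -/
theorem b2_mul {p : ℕ} [hp : Fact p.Prime] [CharP F p] [Finite ↥H] {u v : F} (hu : x 7 u ∈ H) (hv : x 7 v ∈ H) :
    x 7 (u * v) ∈ H := by
  by_cases h2 : p = 2
  · subst h2
    exact b2_mul_two f H hM hu hv
  · exact b2_mul_odd f H hM (hp.out.odd_of_ne_two h2) hu hv

end

end Cfsg.Agent.Lib.ChevSub2.B2
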