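import Mathlib
import Cfsg.Agent.Lib.ChevSub2.Top

/-!
# Finite overgroups: the intersection with the Borel subgroup is rational
-/

set_option autoImplicit false
set_option linter.unusedSectionVars false
set_option linter.unusedVariables false
set_option linter.unnecessarySimpa false

namespace Cfsg.Agent.Lib.ChevSub2

open Cfsg Cfsg.Lie Matrix Cfsg.Agent.Lib.Chev Cfsg.Agent.Lib.Chev.Full Cfsg.Agent.Lib.Chev.Tri
open Cfsg.Agent.Lib.ChevTransfer Cfsg.Agent.Lib.ChevAut.SubField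
open Cfsg.Agent.Lib.ChevAut.ParabFit Cfsg.Agent.Lib.ChevInv Cfsg.Agent.Lib.ChevInv.CentG
open Cfsg.Agent.Lib.ChevAut.RootCent Equiv
open Cfsg.Agent.Lib.ChevSub

variable {T : Tabs} {X : Extra} {R : RootTab} {D : ChevalleyDatum} (hF : Full T X R D)
variable {F : Type*} [Field F] (f : F ≃+* F)

include hF

/-- Elements of the unipotent group commuting with the `x_β(1)`. -/
theorem center_form {top : ℕ} (htop : top < D.nroots) (htopN : R.N ≤ top) (hmax : ∀ s < D.nroots, s ≤ top)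
    (hcov : ∀ k, R.N ≤ k → k < D.nroots → k ≠ top → ∃ β m i N' M', RowOK R D k β m i N' M' ∧
      ((rowZ D k β i N' M' : ℤ) : F) ≠ 0)
    {z : GL D.Idx F} (hz : z ∈ D.posUnipotent F)
    (hc : ∀ β, β < D.nroots → R.N ≤ β → z * hF.c.xG β 1 = hF.c.xG β 1 * z) : ∃ e : F, z = hF.c.xG top e := by
  have htop1 : D.nroots ≤ top + 1 := by
    by_contra h
    have := hmax (top + 1) (by omega)
    omega
  have hkill : ∀ j (a : F) (z1 : GL D.Idx F), R.N ≤ j → j < D.nroots → j ≠ top → z1 ∈ Uk D F (j + 1) →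
      (∀ β, R.N ≤ β → β < D.nroots →
        (hF.c.xG j a * z1) * hF.c.xG β 1 = hF.c.xG β 1 * (hF.c.xG j a * z1)) → a = 0 := by
    intro j a z1 h1 h2 h3 h5 h6
    obtain ⟨β, m, i, N', M', hrow, hne⟩ := hcov j h1 h2 h3
    have h7 := lead_row hF hrow h5 (h6 β hrow.2.2.1 hrow.2.2.2.1)
    exact (mul_eq_zero.1 h7).resolve_left hne
  have hztop : ∀ (m j : ℕ), j + m = top → R.N ≤ j → ∀ y ∈ Uk D F j,
      (∀ β, R.N ≤ β → β < D.nroots → y * hF.c.xG β 1 = hF.c.xG β 1 * y) → ∃ e, y = hF.c.xG top e := by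
    intro m
    induction m with
    | zero =>
      intro j hj hjδ y hy hyc
      have hjt : j = top := by omega
      rw [hjt] at hy
      obtain ⟨σ', rfl⟩ := hF.exists_ordW (D.nroots - top) top (by omega) htopN y hy
      refine ⟨σ' top, ?_⟩
      rw [hF.ordW_succ htop, hF.ordW_of_ge htop1, mul_one]
    | succ m ih =>
      intro j hj hjN y hy hyc
      have hjn : j < D.nroots := by omega
      obtain ⟨σ', rfl⟩ := hF.exists_ordW (D.nroots - j) j (by omega) hjN y hy
      have h1 : σ' j = 0 := by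
        apply hkill j _ (hF.ordW (j + 1) σ') hjN hjn (by omega) (hF.ordW_mem _ _)
        intro β h2 h3
        rw [← hF.ordW_succ hjn]
        exact hyc β h2 h3
      have h2 : hF.ordW j σ' = hF.ordW (j + 1) σ' := by
        rw [hF.ordW_succ hjn, h1, hF.c.xG_zero, one_mul]
      rw [h2] at hyc ⊢
      exact ih (j + 1) (by omega) (by omega) _ (hF.ordW_mem _ _) hyc
  rw [hF.U_eq_Uk] at hz
  exact hztop (top - R.N) R.N (by omega) le_rfl z hz (fun β h1 h2 => hc β h2 h1)

/-- The elements `h_r(c)`, `c` rational. -/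
theorem hG_mem_Lf {r : ℕ} (hr : r < D.nroots) {c : F} (hc : f c = c) : hF.c.hG r c ∈ Lf D f := by
  have hn := hF.neg_lt hr
  unfold Checks.hG Checks.nG
  refine mul_mem (mul_mem (mul_mem (xG_mem_Lf hF f hr hc) (xG_mem_Lf hF f hn ?_)) (xG_mem_Lf hF f hr hc))
    (mul_mem (mul_mem (xG_mem_Lf hF f hr (by simp)) (xG_mem_Lf hF f hn (by simp))) (xG_mem_Lf hF f hr (by simp)))
  rw [map_neg, map_inv₀, hc]

/-- A torus element with rational parameters lies in `Lf`. -/
theorem tor_mem_Lf (c : Fin D.rank → Fˣ) (hc : ∀ k, f (c k : F) = (c k : F)) : tor R D c ∈ Lf D f := by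
  classical
  have e : c = ∏ k, Pi.mulSingle k (c k) := (Finset.univ_prod_mulSingle c).symm
  have hS : ∀ k, Pi.mulSingle k (c k) ∈ (Lf D f).comap (torHom R D) := by
    intro k
    rw [Subgroup.mem_comap, torHom_apply, ← hF.hSimple_eq_tor k (c k)]
    exact hG_mem_Lf hF f (hF.simple_lt k.2) (hc k)
  have h2 : c ∈ (Lf D f).comap (torHom R D) := by
    rw [e]
    exact Subgroup.prod_mem _ (fun k _ => hS k)
  exact h2

omit hF in
theorem prod_zpow_sum {ι : Type*} {G : Type*} [CommGroup G] (s : Finset ι) (a : G) (g : ι → ℤ) :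
    ∏ i ∈ s, a ^ g i = a ^ ∑ i ∈ s, g i := by
  classical
  induction s using Finset.induction_on with
  | empty => simp
  | insert i s hi ih => rw [Finset.prod_insert hi, Finset.sum_insert hi, ih, _root_.zpow_add]

/-- Solving for the parameters of a torus element. -/
theorem tor_param {d : ℤ} (W : Fin D.rank → Fin D.rank → ℤ)
    (hW : ∀ k j : Fin D.rank, ∑ s : Fin D.rank, D.cartan j (D.simple s) * W k s = if j = k then d else 0)
    (c : Fin D.rank → Fˣ) (k : Fin D.rank) :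
    c k ^ d = ∏ s : Fin D.rank, (chiT D c (D.simple s)) ^ W k s := by
  classical
  unfold chiT
  have e1 : ∀ s : Fin D.rank, (∏ j : Fin D.rank, c j ^ D.cartan j (D.simple s)) ^ W k s =
      ∏ j : Fin D.rank, c j ^ (D.cartan j (D.simple s) * W k s) := by
    intro s
    rw [← Finset.prod_zpow]
    apply Finset.prod_congr rfl
    intro j _
    rw [_root_.zpow_mul]
  simp only [e1]
  rw [Finset.prod_comm]
  have e2 : ∀ j : Fin D.rank, ∏ s : Fin D.rank, c j ^ (D.cartan j (D.simple s) * W k s) =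
      c j ^ (if j = k then d else 0) := by
    intro j
    rw [prod_zpow_sum, hW]
  simp only [e2]
  rw [Finset.prod_eq_single k]
  · simp
  · intro j _ hj
    simp [hj]
  · simp

/-- The fixed points of the torus, when the Cartan matrix is invertible enough. -/
theorem tor_fixed_mem {d : ℤ} (W : Fin D.rank → Fin D.rank → ℤ)
    (hW : ∀ k j : Fin D.rank, ∑ s : Fin D.rank, D.cartan j (D.simple s) * W k s = if j = k then d else 0)
    (hd : ∀ a : Fˣ, f ((a ^ d : Fˣ) : F) = ((a ^ d : Fˣ) : F) → f (a : F) = a)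
    (c : Fin D.rank → Fˣ) (hfix : glMap D f (tor R D c) = tor R D c) : tor R D c ∈ Lf D f := by
  classical
  have hchi : ∀ s : Fin D.rank, f ((chiT D c (D.simple s) : Fˣ) : F) = ((chiT D c (D.simple s) : Fˣ) : F) := by
    intro s
    have hs := hF.simple_lt s.2
    have h1 := hF.tor_conj_xG c hs (1 : F)
    have h2 := congrArg (glMap D f) h1
    rw [map_mul, map_mul, map_inv, hfix, sig_xG hF, sig_xG hF, map_one, h1] at h2
    have h3 := hF.xG_param_inj hs h2
    rw [mul_one] at h3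
    exact h3.symm
  apply tor_mem_Lf hF f c
  intro k
  apply hd
  rw [tor_param hF W hW c k]
  -- the fixed units form a subgroup
  let S : Subgroup Fˣ :=
    { carrier := {a | f (a : F) = a}
      mul_mem' := by
        intro a b ha hb
        simp only [Set.mem_setOf_eq, Units.val_mul, map_mul] at *
        rw [ha, hb]
      one_mem' := by simp
      inv_mem' := by
        intro a ha
        simp only [Set.mem_setOf_eq, Units.val_inv_eq_inv_val, map_inv₀] at *
        rw [ha] }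
  have h1 : ∏ s : Fin D.rank, (chiT D c (D.simple s)) ^ W k s ∈ S :=
    Subgroup.prod_mem _ (fun s _ => Subgroup.zpow_mem _ (hchi s) _)
  exact h1

section Over

variable (H : Subgroup (GL D.Idx F)) (hHG : H ≤ D.group F) (hM : Lf D f ≤ H)
  (hNS : ∀ u ∈ H, u ∈ D.posUnipotent F → glMap D f u = u)

include hHG hM hNS

/-- If the rational points of the torus lie in `H`, then `H ∩ B` is rational. -/
theorem nb_T (hT2 : T2Tab R D) (hrk : 0 < D.rank)
    (hT : ∀ c : Fin D.rank → Fˣ, glMap D f (tor R D c) = tor R D c → tor R D c ∈ H)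
    {b : GL D.Idx F} (hbH : b ∈ H) (hbB : b ∈ D.borelSubgroup F) : glMap D f b = b := by
  obtain ⟨h1, -⟩ := B_defect hF f H hHG hM hNS hT2 hrk hbH hbB
  obtain ⟨u, hu, t, ht, hut⟩ := hF.mem_borel_iff.1 hbB
  have hfu := sig_U hF f hu
  have hft := sig_diagonal hF f ht
  have h2 : t⁻¹ * glMap D f t ∈ D.posUnipotent F := by
    have e : t⁻¹ * glMap D f t = (t⁻¹ * (glMap D f u)⁻¹ * u * t) * (b⁻¹ * glMap D f b) := by
      rw [hut, map_mul]
      group
    rw [e]
    refine mul_mem ?_ h1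
    have h3 : (glMap D f u)⁻¹ * u ∈ D.posUnipotent F := mul_mem (inv_mem hfu) hu
    have ht' : t⁻¹ ∈ D.diagonalSubgroup F := inv_mem ht
    have h4 := (Subgroup.mem_set_normalizer_iff.1 (hF.diagonal_le_normalizer_U ht') _).1 h3
    have e2 : t⁻¹ * (glMap D f u)⁻¹ * u * t = t⁻¹ * ((glMap D f u)⁻¹ * u) * t⁻¹⁻¹ := by group
    rw [e2]
    exact h4
  have h3' : t⁻¹ * glMap D f t ∈ D.diagonalSubgroup F := mul_mem (inv_mem ht) hft
  have h3 : t⁻¹ * glMap D f t ∈ D.posUnipotent F ⊓ D.diagonalSubgroup F := Subgroup.mem_inf.2 ⟨h2, h3'⟩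
  rw [hF.U_inf_H, Subgroup.mem_bot] at h3
  have hfixt : glMap D f t = t := by
    have e : glMap D f t = t * (t⁻¹ * glMap D f t) := by group
    rw [e, h3, mul_one]
  obtain ⟨c, rfl⟩ := hF.mem_diagonal_iff.1 ht
  have htH := hT c hfixt
  have huH : u ∈ H := by
    have e : u = b * (tor R D c)⁻¹ := by rw [hut]; group
    rw [e]
    exact mul_mem hbH (inv_mem htH)
  rw [hut, map_mul, hNS u huH hu, hfixt]

/-- The generic case: the torus element of the fundamental root for the highest root. -/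
theorem nb_norm [Finite ↥H] {p : ℕ} [hp : Fact p.Prime] [CharP F p] (hT2 : T2Tab R D) (hrk : 0 < D.rank)
    {top j0 : ℕ} (htop : top < D.nroots) (htopN : R.N ≤ top) (hmax : ∀ s < D.nroots, s ≤ top)
    (hcov : ∀ k, R.N ≤ k → k < D.nroots → k ≠ top → ∃ β m i N' M', RowOK R D k β m i N' M' ∧
      ((rowZ D k β i N' M' : ℤ) : F) ≠ 0)
    (hj0 : j0 < D.rank) (hcart : D.cartan j0 top = 1)
    {b : GL D.Idx F} (hbH : b ∈ H) (hbB : b ∈ D.borelSubgroup F) : glMap D f b = b := by
  obtain ⟨h1, h2⟩ := B_defect hF f H hHG hM hNS hT2 hrk hbH hbB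
  obtain ⟨a, ha⟩ := center_form hF htop htopN hmax hcov h1 h2
  have hfb : glMap D f b = b * hF.c.xG top a := by
    rw [← ha]
    group
  obtain ⟨u, hu, t, ht, hut⟩ := hF.mem_borel_iff.1 hbB
  obtain ⟨c, rfl⟩ := hF.mem_diagonal_iff.1 ht
  set χ : Fˣ := chiT D c top with hχ
  have hact : ∀ s : F, b * hF.c.xG top s * b⁻¹ = hF.c.xG top ((χ : F) * s) := by
    intro s
    have e1 := top_comm_U hF htop hmax htopN hu ((χ : F) * s)
    rw [hut]
    calc (u * tor R D c) * hF.c.xG top s * (u * tor R D c)⁻¹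
        = u * (tor R D c * hF.c.xG top s * (tor R D c)⁻¹) * u⁻¹ := by group
      _ = u * hF.c.xG top ((χ : F) * s) * u⁻¹ := by rw [hF.tor_conj_xG c htop]
      _ = _ := by rw [e1]; group
  have hχfix : f (χ : F) = χ := by
    have h3 := congrArg (glMap D f) (hact 1)
    rw [map_mul, map_mul, map_inv, sig_xG hF, sig_xG hF, map_one, hfb] at h3
    have e : (b * hF.c.xG top a) * hF.c.xG top 1 * (b * hF.c.xG top a)⁻¹ = b * hF.c.xG top 1 * b⁻¹ := by
      have e2 : hF.c.xG top a * hF.c.xG top 1 = hF.c.xG top 1 * hF.c.xG top a := by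
        rw [hF.c.xG_add, hF.c.xG_add, add_comm]
      calc (b * hF.c.xG top a) * hF.c.xG top 1 * (b * hF.c.xG top a)⁻¹
          = b * (hF.c.xG top a * hF.c.xG top 1) * (hF.c.xG top a)⁻¹ * b⁻¹ := by group
        _ = _ := by rw [e2]; group
    rw [e, hact 1] at h3
    have h4 := hF.xG_param_inj htop h3
    rw [mul_one] at h4
    exact h4.symm
  -- the correction
  set hh := hF.c.hG (D.simple j0) ((χ⁻¹ : Fˣ) : F) with hhh
  have hhL : hh ∈ Lf D f := hG_mem_Lf hF f (hF.simple_lt hj0) (by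
    rw [Units.val_inv_eq_inv_val, map_inv₀, hχfix])
  have hhT : hh ∈ D.diagonalSubgroup F := by
    rw [hhh, hF.hSimple_eq_tor ⟨j0, hj0⟩ χ⁻¹]
    exact hF.tor_mem_diagonal _
  have hhact : ∀ s : F, hh * hF.c.xG top s * hh⁻¹ = hF.c.xG top (((χ⁻¹ : Fˣ) : F) * s) := by
    intro s
    rw [hhh, hF.hSimple_eq_tor ⟨j0, hj0⟩ χ⁻¹, hF.tor_conj_xG _ htop, hF.mulSingle_chiT]
    simp only [hcart, zpow_one]
  set b' := b * hh with hb'
  have hb'H : b' ∈ H := mul_mem hbH (hM hhL)
  have hb'B : b' ∈ D.borelSubgroup F := mul_mem hbB (hF.c.diagonal_le_borel hhT)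
  have hcomm : ∀ s : F, b' * hF.c.xG top s = hF.c.xG top s * b' := by
    intro s
    have e : b' * hF.c.xG top s * b'⁻¹ = hF.c.xG top s := by
      calc b' * hF.c.xG top s * b'⁻¹ = b * (hh * hF.c.xG top s * hh⁻¹) * b⁻¹ := by rw [hb']; group
        _ = hF.c.xG top ((χ : F) * (((χ⁻¹ : Fˣ) : F) * s)) := by rw [hhact, hact]
        _ = hF.c.xG top s := by
          congr 1
          rw [← mul_assoc, ← Units.val_mul, mul_inv_cancel, Units.val_one, one_mul]
    calc b' * hF.c.xG top s = (b' * hF.c.xG top s * b'⁻¹) * b' := by group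
      _ = _ := by rw [e]
  set a' : F := (χ : F) * a with ha'
  have hfb' : glMap D f b' = b' * hF.c.xG top a' := by
    have e : hh * hF.c.xG top a' * hh⁻¹ = hF.c.xG top a := by
      rw [hhact, ha']
      congr 1
      rw [← mul_assoc, ← Units.val_mul, inv_mul_cancel, Units.val_one, one_mul]
    have e2 : hF.c.xG top a * hh = hh * hF.c.xG top a' := by
      rw [← e]
      group
    rw [hb', map_mul, hfb, sig_of_mem_Lf hF f hhL, mul_assoc, e2, mul_assoc]
  -- the orders
  classical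
  set N := orderOf (⟨b', hb'H⟩ : ↥H) with hN
  have hNpos : 0 < N := orderOf_pos _
  obtain ⟨e, m, hpm, hNe⟩ := Nat.exists_eq_pow_mul_and_not_dvd hNpos.ne' p hp.out.ne_one
  have hpow : b' ^ N = 1 := by
    have h3 := pow_orderOf_eq_one (⟨b', hb'H⟩ : ↥H)
    have h4 := congrArg (fun w : ↥H => (w : GL D.Idx F)) h3
    simp only [SubgroupClass.coe_pow, OneMemClass.coe_one] at h4
    exact h4
  have hy : (b' ^ m) ^ (p ^ e) = 1 := by
    rw [← pow_mul, mul_comm, ← hNe, hpow]
  have hyU := mem_U_of_pElt hF (pow_mem hb'B m) hy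
  have hyH : b' ^ m ∈ H := pow_mem hb'H m
  have hfy := hNS _ hyH hyU
  rw [map_pow, hfb'] at hfy
  have hc' : Commute b' (hF.c.xG top a') := hcomm a'
  rw [hc'.mul_pow, xG_pow hF] at hfy
  have h5 : hF.c.xG top ((m : F) * a') = hF.c.xG top 0 := by
    rw [hF.c.xG_zero]
    have := mul_left_cancel (a := b' ^ m) (b := hF.c.xG top ((m : F) * a')) (c := 1) (by rw [hfy, mul_one])
    exact this
  have h6 := hF.xG_param_inj htop h5
  have hm0 : (m : F) ≠ 0 := fun h => hpm ((CharP.cast_eq_zero_iff F p m).1 h)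
  have h7 : a' = 0 := (mul_eq_zero.1 h6).resolve_left hm0
  have h8 : a = 0 := (mul_eq_zero.1 h7).resolve_left (Units.ne_zero _)
  rw [hfb, h8, hF.c.xG_zero, mul_one]

end Over

section Star

omit hF in
theorem conj_lo_entry (g : Matrix.SpecialLinearGroup (Fin 2) F) (t : F) :
    ((g * loS t * g⁻¹ : Matrix.SpecialLinearGroup (Fin 2) F) : Matrix (Fin 2) (Fin 2) F) 0 1 =
      -((g : Matrix (Fin 2) (Fin 2) F) 0 1) ^ 2 * t := by
  rw [Matrix.SpecialLinearGroup.coe_mul, Matrix.SpecialLinearGroup.coe_mul, coe_inv_sl2]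
  simp [Matrix.mul_apply, Fin.sum_univ_two, loS, Matrix.vecMul, dotProduct]
  ring

omit hF in
theorem invol_entry (h2 : (2 : F) ≠ 0) (w : Matrix.SpecialLinearGroup (Fin 2) F) (hw : w * w = 1) :
    (w : Matrix (Fin 2) (Fin 2) F) 0 1 = 0 := by
  have hd := det_sl2 w
  have h3 := congrArg (fun g : Matrix.SpecialLinearGroup (Fin 2) F => (g : Matrix (Fin 2) (Fin 2) F)) hw
  simp only [Matrix.SpecialLinearGroup.coe_mul, Matrix.SpecialLinearGroup.coe_one] at h3
  have h00 := congrFun (congrFun h3 0) 0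
  have h01 := congrFun (congrFun h3 0) 1
  simp [Matrix.mul_apply, Fin.sum_univ_two] at h00 h01
  set a := (w : Matrix (Fin 2) (Fin 2) F) 0 0
  set b := (w : Matrix (Fin 2) (Fin 2) F) 0 1
  set c := (w : Matrix (Fin 2) (Fin 2) F) 1 0
  set d := (w : Matrix (Fin 2) (Fin 2) F) 1 1
  by_contra hb
  have h4 : a + d = 0 := by
    have : b * (a + d) = 0 := by linear_combination h01
    exact (mul_eq_zero.1 this).resolve_left hb
  have h5 : d = -a := by linear_combination h4
  rw [h5] at hd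
  apply h2
  have h6 : a * a + b * c = 1 := by linear_combination h00
  linear_combination -h6 - hd

variable (H : Subgroup (GL D.Idx F)) (hHG : H ≤ D.group F) (hM : Lf D f ≤ H)
  (hNS : ∀ u ∈ H, u ∈ D.posUnipotent F → glMap D f u = u)

include hHG hM hNS

/-- The rank one trick: an element of `H ∩ B` with central defect, when the top entries are rational. -/
theorem nb_star (hT2 : T2Tab R D) (hrk : 0 < D.rank)
    {top : ℕ} (htop : top < D.nroots) (htopN : R.N ≤ top) (hmax : ∀ s < D.nroots, s ≤ top)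
    (hcov : ∀ k, R.N ≤ k → k < D.nroots → k ≠ top → ∃ β m i N' M', RowOK R D k β m i N' M' ∧
      ((rowZ D k β i N' M' : ℤ) : F) ≠ 0)
    (hm : ChevMonoN.checkMono T X D = true) (h2 : (2 : F) ≠ 0)
    (h0 : 0 < D.nroots) (hbot : D.neg top = 0) {L : ℕ → Prop} (hC : ChainT D L)
    (hdown : ∀ r < D.nroots, L r → r ≠ 0 → ∃ i < D.rank, X.wf i r < r ∧ L (X.wf i r))
    (hup : ∀ r < D.nroots, L r → ∀ i < D.rank, L (X.wf i r)) (hLtop : L top)
    (hE : ∀ y ∈ H, f ((y : Matrix D.Idx D.Idx F) (Sum.inr ⟨0, h0⟩) (Sum.inr ⟨top, htop⟩)) =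
      (y : Matrix D.Idx D.Idx F) (Sum.inr ⟨0, h0⟩) (Sum.inr ⟨top, htop⟩))
    {b : GL D.Idx F} (hbH : b ∈ H) (hbB : b ∈ D.borelSubgroup F) : glMap D f b = b := by
  obtain ⟨h1, h3⟩ := B_defect hF f H hHG hM hNS hT2 hrk hbH hbB
  obtain ⟨a, ha⟩ := center_form hF htop htopN hmax hcov h1 h3
  have hfb : glMap D f b = b * hF.c.xG top a := by
    rw [← ha]
    group
  set x := b * hF.c.xG 0 1 with hx
  have hxH : x ∈ H := mul_mem hbH (x_rat hF f H hM h0 (map_one f))
  have hg : x⁻¹ * glMap D f x = hF.c.xG 0 (-1) * hF.c.xG top a * hF.c.xG 0 1 := by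
    rw [hx, map_mul, sig_xG hF, map_one, hfb, ← hF.c.xG_inv]
    group
  obtain ⟨ν, hν⟩ := stab_of_entries hF htop hmax htopN f H hHG hM hNS hm h2 h0 hbot hC hdown hup hLtop hxH
    (fun a' ha' => hE _ (mul_mem (hM ha') hxH))
  have hneg0 : D.neg 0 = top := by
    have := hF.neg_neg htop
    rwa [hbot] at this
  obtain ⟨φ, -, hφ⟩ := hF.exists_sl2_hom (F := F) h0
  have hup' : ∀ t : F, φ (upS t) = hF.c.xG 0 t := fun t => hF.c.eq_xG ((hφ (upS t) t).1 rfl)
  have hlo' : ∀ t : F, φ (loS t) = hF.c.xG top t := fun t => by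
    rw [← hneg0]
    exact hF.c.eq_xG ((hφ (loS t) t).2 rfl)
  set A : Matrix.SpecialLinearGroup (Fin 2) F := upS (-1) * loS a * upS 1 with hA
  have hAφ : φ A = x⁻¹ * glMap D f x := by
    rw [hA, map_mul, map_mul, hup', hup', hlo', hg]
  set w : Matrix.SpecialLinearGroup (Fin 2) F := A * loS 1 * A⁻¹ * (loS (ν : F))⁻¹ with hw
  have hwk : φ w = 1 := by
    rw [hw, map_mul, map_mul, map_mul, map_inv, map_inv, hAφ, hlo', hlo', hν 1, mul_one, mul_inv_cancel]
  have hww := sl2_ker hF h0 hφ hwk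
  have h5 := invol_entry h2 w hww
  have h6 : (w : Matrix (Fin 2) (Fin 2) F) 0 1 = -((A : Matrix (Fin 2) (Fin 2) F) 0 1) ^ 2 * 1 := by
    rw [← conj_lo_entry, hw, Matrix.SpecialLinearGroup.coe_mul, coe_inv_sl2 (loS (ν : F))]
    simp [Matrix.mul_apply, Fin.sum_univ_two, loS]
  have h7 : (A : Matrix (Fin 2) (Fin 2) F) 0 1 = -a := by
    rw [hA, Matrix.SpecialLinearGroup.coe_mul, Matrix.SpecialLinearGroup.coe_mul]
    simp [Matrix.mul_apply, Fin.sum_univ_two, upS, loS]
  rw [h6, h7] at h5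
  have h8 : a ^ 2 = 0 := by linear_combination -h5
  have h9 : a = 0 := pow_eq_zero_iff (by norm_num) |>.1 h8
  rw [hfb, h9, hF.c.xG_zero, mul_one]

end Star

end Cfsg.Agent.Lib.ChevSub2
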