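import Mathlib
import Cfsg.Agent.Lib.ChevSub2.NB

/-!
# The subfield attached to a finite overgroup
-/

set_option autoImplicit false
set_option linter.unusedSectionVars false
set_option linter.unusedVariables false
set_option linter.unnecessarySimpa false

namespace Cfsg.Agent.Lib.ChevSub2

open Cfsg Cfsg.Lie Matrix Cfsg.Agent.Lib.Chev Cfsg.Agent.Lib.Chev.Full
open Cfsg.Agent.Lib.ChevTransfer Cfsg.Agent.Lib.ChevAut.SubField
open Cfsg.Agent.Lib.ChevSub

section FieldPart

variable {F : Type*} [Field F] [IsAlgClosed F] (p : ℕ) [hp : Fact p.Prime] [CharP F p]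

/-- The subfield fixed by a power of the Frobenius. -/
noncomputable def K0 (F : Type*) [Field F] (p : ℕ) [Fact p.Prime] [CharP F p] (a : ℕ) : Subfield F :=
  RingHom.eqLocusField (iterateFrobenius F p a) (RingHom.id F)

omit [IsAlgClosed F] in
theorem mem_K0 {a : ℕ} {x : F} : x ∈ K0 F p a ↔ x ^ (p ^ a) = x := by
  show iterateFrobenius F p a x = x ↔ _
  rw [iterateFrobenius_def]

open scoped Classical in
/-- The roots of `X^(p^n) - X`. -/
theorem card_roots_eq {n : ℕ} (hn : n ≠ 0) :
    (Polynomial.roots (Polynomial.X ^ p ^ n - Polynomial.X : Polynomial F)).toFinset.card = p ^ n := by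
  have hsep : (Polynomial.X ^ p ^ n - Polynomial.X : Polynomial F).Separable :=
    galois_poly_separable p (p ^ n) (dvd_pow_self p hn)
  have hnd := Polynomial.nodup_roots hsep
  rw [Multiset.toFinset_card_of_nodup hnd]
  have hs := (Polynomial.splits_iff_card_roots).1 (IsAlgClosed.splits (Polynomial.X ^ p ^ n - Polynomial.X : Polynomial F))
  rw [hs]
  exact FiniteField.X_pow_card_pow_sub_X_natDegree_eq F hn hp.out.one_lt

open scoped Classical in
theorem mem_roots_iff {n : ℕ} (hn : n ≠ 0) {x : F} :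
    x ∈ (Polynomial.roots (Polynomial.X ^ p ^ n - Polynomial.X : Polynomial F)).toFinset ↔ x ^ p ^ n = x := by
  have hP : (Polynomial.X ^ p ^ n - Polynomial.X : Polynomial F) ≠ 0 :=
    FiniteField.X_pow_card_pow_sub_X_ne_zero F hn hp.out.one_lt
  simp only [Multiset.mem_toFinset, Polynomial.mem_roots hP, Polynomial.IsRoot.def,
    Polynomial.eval_sub, Polynomial.eval_pow, Polynomial.eval_X]
  rw [sub_eq_zero]

theorem card_K0 {a : ℕ} (ha : a ≠ 0) : Nat.card (K0 F p a) = p ^ a := by
  classical
  have h1 : ((K0 F p a : Set F)) = ↑(Polynomial.roots (Polynomial.X ^ p ^ a - Polynomial.X : Polynomial F)).toFinset := by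
    ext x
    rw [Finset.mem_coe, mem_roots_iff p ha]
    exact mem_K0 (F := F) p
  have h2 : Nat.card (K0 F p a) = Set.ncard (K0 F p a : Set F) := Nat.card_coe_set_eq _
  rw [h2, h1, Set.ncard_coe_finset, card_roots_eq p ha]

/-- A finite subfield containing `F_q` is the fixed field of a power of the `q`-Frobenius. -/
theorem field_deg {a : ℕ} (ha : a ≠ 0) (K : Subfield F) [hfin : Finite K] (hK : ∀ t : F, t ^ (p ^ a) = t → t ∈ K) :
    ∃ d : ℕ, d ≠ 0 ∧ ∀ t : F, t ∈ K ↔ t ^ ((p ^ a) ^ d) = t := by
  classical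
  have hle : K0 F p a ≤ K := fun t ht => hK t ((mem_K0 p).1 ht)
  letI : Algebra (K0 F p a) K := (Subfield.inclusion hle).toAlgebra
  haveI : Finite (K0 F p a) := Finite.of_injective (fun x => (⟨x, hle x.2⟩ : K))
    (fun x y h => Subtype.ext (congrArg (fun w : K => (w : F)) h))
  haveI : Module.Finite (K0 F p a) K := Module.Finite.of_finite
  have hcard : Nat.card K = Nat.card (K0 F p a) ^ Module.finrank (K0 F p a) K := Module.natCard_eq_pow_finrank
  rw [card_K0 p ha] at hcard
  set d := Module.finrank (K0 F p a) K with hd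
  have hd0 : d ≠ 0 := by
    intro h
    rw [h, pow_zero] at hcard
    have h2 : Nontrivial K := inferInstance
    have h3 := Finite.one_lt_card (α := K)
    omega
  refine ⟨d, hd0, ?_⟩
  haveI : Fintype K := Fintype.ofFinite K
  have hpow : ∀ t ∈ K, t ^ ((p ^ a) ^ d) = t := by
    intro t ht
    have h1 : ((⟨t, ht⟩ : K)) ^ (Fintype.card K) = ⟨t, ht⟩ := FiniteField.pow_card _
    rw [← Nat.card_eq_fintype_card, hcard] at h1
    exact congrArg Subtype.val h1
  intro t
  refine ⟨hpow t, fun ht => ?_⟩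
  have hn : a * d ≠ 0 := mul_ne_zero ha hd0
  have hpw : (p ^ a) ^ d = p ^ (a * d) := (pow_mul p a d).symm
  let S := (Polynomial.roots (Polynomial.X ^ p ^ (a * d) - Polynomial.X : Polynomial F)).toFinset
  have hS : S.card = p ^ (a * d) := card_roots_eq p hn
  have hKfin : (K : Set F).Finite := Set.toFinite _
  let T := hKfin.toFinset
  have hT : T.card = p ^ (a * d) := by
    have h1 : Nat.card K = T.card := by
      rw [← Set.ncard_eq_toFinset_card _ hKfin]
      rfl
    rw [← h1, hcard, hpw]
  have hTS : T ⊆ S := by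
    intro x hx
    have hx' : x ∈ K := by simpa [T] using hx
    exact (mem_roots_iff p hn).2 (by rw [← hpw]; exact hpow x hx')
  have heq : T = S := Finset.eq_of_subset_of_card_le hTS (by rw [hS, hT])
  have hxS : t ∈ S := (mem_roots_iff p hn).2 (by rw [← hpw]; exact ht)
  rw [← heq] at hxS
  simpa [T] using hxS

end FieldPart

variable {T : Tabs} {X : Extra} {R : RootTab} {D : ChevalleyDatum} (hF : Full T X R D)
variable {F : Type*} [Field F]

include hF

/-- The group elements at the highest root form a field. -/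
theorem exists_frob [IsAlgClosed F] (p : ℕ) [hp : Fact p.Prime] [CharP F p] (H : Subgroup (GL D.Idx F)) [Finite ↥H]
    {top a : ℕ} (htop : top < D.nroots) (ha : a ≠ 0)
    (hq : ∀ t : F, t ^ (p ^ a) = t → hF.c.xG top t ∈ H)
    (hmul : ∀ {u v : F}, hF.c.xG top u ∈ H → hF.c.xG top v ∈ H → hF.c.xG top (u * v) ∈ H) :
    ∃ d : ℕ, d ≠ 0 ∧ ∀ t : F, hF.c.xG top t ∈ H ↔ t ^ ((p ^ a) ^ d) = t := by
  classical
  let K : Subfield F :=
    { carrier := {t | hF.c.xG top t ∈ H}
      mul_mem' := fun hu hv => hmul hu hv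
      one_mem' := hq 1 (one_pow _)
      add_mem' := fun hu hv => x_add_mem H hF hu hv
      zero_mem' := hq 0 (zero_pow (pow_ne_zero a hp.out.ne_zero))
      neg_mem' := fun hu => x_neg_mem H hF hu
      inv_mem' := by
        intro t ht
        by_cases h0 : t = 0
        · rw [h0, _root_.inv_zero]
          exact hq 0 (zero_pow (pow_ne_zero a hp.out.ne_zero))
        · exact inv_of_finite hF H htop hmul h0 ht }
  haveI : Finite K := Finite.of_injective (fun t : K => (⟨hF.c.xG top t, t.2⟩ : ↥H))
    (fun t t' h => Subtype.ext (hF.xG_param_inj htop (congrArg (fun w : ↥H => (w : GL D.Idx F)) h)))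
  obtain ⟨d, hd, hK⟩ := field_deg p ha K (fun t ht => hq t ht)
  exact ⟨d, hd, fun t => hK t⟩

end Cfsg.Agent.Lib.ChevSub2
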