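import Mathlib
import Cfsg.Agent.Lib.ChevSub.PartOne
import Cfsg.Agent.Lib.ChevSub2.Field
import Cfsg.Agent.Lib.ChevSub2.Exc
import Cfsg.Agent.Lib.ChevSub2.Deep

/-!
# Finite overgroups: the generic assembly
-/

set_option autoImplicit false
set_option linter.unusedSectionVars false
set_option linter.unusedVariables false
set_option linter.unnecessarySimpa false

namespace Cfsg.Agent.Lib.ChevSub2

open Cfsg Cfsg.Lie Matrix Cfsg.Agent.Lib.Chev Cfsg.Agent.Lib.Chev.Full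
open Cfsg.Agent.Lib.ChevTransfer Cfsg.Agent.Lib.ChevAut.SubField Cfsg.Agent.Lib.ChevInv
open Cfsg.Agent.Lib.ChevAut.ParabFit
open Cfsg.Agent.Lib.ChevSub

variable {T : Tabs} {X : Extra} {R : RootTab} {D : ChevalleyDatum} (hF : Full T X R D)
variable {F : Type*} [Field F] (f : F ≃+* F)

include hF

theorem xL_mem_Lf {L : List ℕ} (hL : ∀ r ∈ L, r < D.nroots) : xL hF F L ∈ Lf D f := by
  induction L with
  | nil => simp [xL_nil hF]
  | cons r L ih =>
    rw [xL_cons hF]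
    exact mul_mem (xG_mem_Lf hF f (hL r List.mem_cons_self) (map_one f))
      (ih (fun s hs => hL s (List.mem_cons_of_mem _ hs)))

section Over

variable (H : Subgroup (GL D.Idx F)) (hM : Lf D f ≤ H)

include hM

/-- Simply laced: the roots are in one orbit. -/
theorem up_all_sl {top : ℕ} (htop : top < D.nroots)
    (hup : ∀ r < D.nroots, r ≠ top → ∃ i < D.rank, r < X.wf i r) {t : F} (ht : hF.c.xG top t ∈ H)
    {r : ℕ} (hr : r < D.nroots) : hF.c.xG r t ∈ H :=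
  (orbit_iff' hF f H hM (L := fun _ => True) htop (fun r hr _ hne => by
    obtain ⟨i, hi, h3⟩ := hup r hr hne
    exact ⟨i, hi, h3, trivial⟩) hr trivial t).2 ht

/-- Two root lengths: the long roots give the short roots. -/
theorem up_all_ns [Finite ↥H] {top δ j s1 : ℕ} {L : ℕ → Prop} [DecidablePred L] (htop : top < D.nroots) (hδ : δ < D.nroots)
    (hup : ∀ r < D.nroots, L r → r ≠ top → ∃ i < D.rank, r < X.wf i r ∧ L (X.wf i r))
    (hupS : ∀ r < D.nroots, ¬ L r → r ≠ δ → ∃ i < D.rank, r < X.wf i r ∧ ¬ L (X.wf i r))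
    (hmul : ∀ {u v : F}, hF.c.xG top u ∈ H → hF.c.xG top v ∈ H → hF.c.xG top (u * v) ∈ H)
    (hj : j < D.rank) (hLj : L (D.simple j)) (hLj' : L (D.neg (D.simple j)))
    (hs1 : s1 < D.nroots) (hLs1 : ¬ L s1) (hc : D.cartan j s1 = 1 ∨ D.cartan j s1 = -1)
    {t : F} (ht : hF.c.xG top t ∈ H) {r : ℕ} (hr : r < D.nroots) : hF.c.xG r t ∈ H := by
  have hsj := hF.simple_lt hj
  have hnj := hF.neg_lt hsj
  by_cases hLr : L r
  · exact (orbit_iff' hF f H hM (L := L) htop hup hr hLr t).2 ht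
  by_cases ht0 : t = 0
  · rw [ht0, hF.c.xG_zero]
    exact one_mem _
  have hti : hF.c.xG top t⁻¹ ∈ H := inv_of_finite hF H htop hmul ht0 ht
  have ho : ∀ {s : ℕ}, s < D.nroots → L s → ∀ {u : F}, hF.c.xG top u ∈ H → hF.c.xG s u ∈ H :=
    fun hs hLs _ hu => (orbit_iff' hF f H hM (L := L) htop hup hs hLs _).2 hu
  have hs : hF.c.xG s1 t ∈ H := by
    set c : Fˣ := Units.mk0 t ht0 with hcdef
    have hcv : (c : F) = t := rfl
    rcases hc with hc | hc
    · have h1 := torus_step hF f H hM hj hs1 c (by rw [hcv]; exact ho hsj hLj ht)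
        (by rw [hcv]; exact ho hnj hLj' (x_neg_mem H hF hti))
      rwa [hc, zpow_one, hcv] at h1
    · have h1 := torus_step hF f H hM hj hs1 c⁻¹ (by
        rw [Units.val_inv_eq_inv_val, hcv]
        exact ho hsj hLj hti)
        (by
          rw [Units.val_inv_eq_inv_val, hcv, _root_.inv_inv]
          exact ho hnj hLj' (x_neg_mem H hF ht))
      rw [hc] at h1
      have e : ((c⁻¹ ^ (-1 : ℤ) : Fˣ) : F) = t := by
        rw [_root_.zpow_neg_one, _root_.inv_inv, hcv]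
      rwa [e] at h1
  have hone := (orbit_iff' hF f H hM (L := fun r => ¬ L r) hδ hupS hs1 hLs1 t).1 hs
  exact (orbit_iff' hF f H hM (L := fun r => ¬ L r) hδ hupS hr hLr t).2 hone

variable (hHG : H ≤ D.group F)
include hHG

/-- The unipotent elements in the generic case. -/
theorem ns_generic {top : ℕ} (htop : top < D.nroots) (htopN : R.N ≤ top) (hmax : ∀ s < D.nroots, s ≤ top)
    (hcov : ∀ k, R.N ≤ k → k < D.nroots → k ≠ top → ∃ β m i N' M', RowOK R D k β m i N' M' ∧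
      ((rowZ D k β i N' M' : ℤ) : F) ≠ 0)
    (hfix : ∀ t : F, hF.c.xG top t ∈ H → f t = t) :
    ∀ u ∈ H, u ∈ D.posUnipotent F → glMap D f u = u := by
  by_contra hcon
  push Not at hcon
  obtain ⟨u, h1, h2, h3⟩ := hcon
  rcases star_cases hF f H hHG hM (δ := top) htop htopN hmax htop htopN (hcentT_of hF htop hmax htopN)
      (fun h => absurd rfl h) (fun k h4 h5 h6 _ => hcov k h4 h5 h6) ⟨u, h1, h2, h3⟩ with ⟨s0, hs0, hx⟩ | ⟨h, -⟩
  · exact hs0 (hfix s0 hx)
  · exact h rfl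

/-- The unipotent elements in the special case. -/
theorem ns_special {top δ : ℕ} (htop : top < D.nroots) (htopN : R.N ≤ top) (hmax : ∀ s < D.nroots, s ≤ top)
    (hδ : δ < D.nroots) (hδN : R.N ≤ δ)
    (hcentD : δ ≠ top → ∀ r < D.nroots, R.N ≤ r → ∀ t t' : F,
      hF.c.xG δ t * hF.c.xG r t' = hF.c.xG r t' * hF.c.xG δ t)
    (hcov : ∀ k, R.N ≤ k → k < D.nroots → k ≠ top → k ≠ δ → ∃ β m i N' M', RowOK R D k β m i N' M' ∧
      ((rowZ D k β i N' M' : ℤ) : F) ≠ 0)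
    (hfix : ∀ t : F, hF.c.xG top t ∈ H → f t = t)
    (hpair : ∀ s c : F, hF.c.xG δ s * hF.c.xG top c ∈ H → f s = s) :
    ∀ u ∈ H, u ∈ D.posUnipotent F → glMap D f u = u := by
  by_contra hcon
  push Not at hcon
  obtain ⟨u, h1, h2, h3⟩ := hcon
  rcases star_cases hF f H hHG hM (δ := δ) htop htopN hmax hδ hδN (hcentT_of hF htop hmax htopN)
      hcentD hcov ⟨u, h1, h2, h3⟩ with ⟨s0, hs0, hx⟩ | ⟨-, s0, c0, hs0, hx⟩
  · exact hs0 (hfix s0 hx)
  · exact hs0 (hpair s0 c0 hx)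

variable (hNS : ∀ u ∈ H, u ∈ D.posUnipotent F → glMap D f u = u)
  (hNB : ∀ b ∈ H, b ∈ D.borelSubgroup F → glMap D f b = b)
include hNS hNB

/-- Characteristic two: two involutions of different ranks. -/
theorem two_of_ranks' [Finite ↥H] [CharP F 2] (hT2 : T2Tab R D) {P Q : List ℕ} (hP : commB D P = true) (hQ : commB D Q = true)
    (hPl : ∀ r ∈ P, r < D.nroots) (hQl : ∀ r ∈ Q, r < D.nroots) {a b : ℕ}
    (rkP : (((xL hF F P : GL D.Idx F) : Matrix D.Idx D.Idx F) - 1).rank = a)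
    (rkQ : (((xL hF F Q : GL D.Idx F) : Matrix D.Idx D.Idx F) - 1).rank = b)
    (hab : a ≠ b) (ha : a ≠ 0) (hb : b ≠ 0) {x : GL D.Idx F} (hx : x ∈ H) : glMap D f x = x := by
  have hord : ∀ {L : List ℕ} {c : ℕ}, commB D L = true →
      (((xL hF F L : GL D.Idx F) : Matrix D.Idx D.Idx F) - 1).rank = c → c ≠ 0 → orderOf (xL hF F L) = 2 := by
    intro L c h1 h2 h3
    apply orderOf_eq_prime
    · rw [pow_two]
      exact xL_sq_of_commB hF h1
    · intro h4
      rw [h4, Units.val_one, sub_self, Matrix.rank_zero] at h2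
      exact h3 h2.symm
  refine over_two hF f H hHG hM hNS hNB hT2 (hM (xL_mem_Lf hF f hPl)) (hM (xL_mem_Lf hF f hQl)) (sig_xL hF f P) (sig_xL hF f Q)
    (hord hP rkP ha) (hord hQ rkQ hb) ?_ hx
  intro g _ he
  have h3 := rank_conj (xL hF F P) g
  rw [he, rkQ, rkP] at h3
  exact hab h3.symm

/-- Characteristic two: two root elements in different classes. -/
theorem two_of_roots' [Finite ↥H] [CharP F 2] (hT2 : T2Tab R D) {top s : ℕ} (htop : top < D.nroots) (hs : s < D.nroots)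
    (hnc : ∀ g ∈ D.group F, g * hF.c.xG top (1 : F) * g⁻¹ = hF.c.xG s 1 → False)
    {x : GL D.Idx F} (hx : x ∈ H) : glMap D f x = x := by
  have hord : ∀ {r : ℕ}, r < D.nroots → orderOf (hF.c.xG r (1 : F)) = 2 := by
    intro r hr
    apply orderOf_eq_prime
    · rw [pow_two, hF.c.xG_add, CharTwo.add_self_eq_zero, hF.c.xG_zero]
    · intro h4
      rw [← hF.c.xG_zero (r := r)] at h4
      exact one_ne_zero (hF.xG_param_inj hr h4)
  refine over_two hF f H hHG hM hNS hNB hT2 (x_rat hF f H hM htop (map_one f)) (x_rat hF f H hM hs (map_one f))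
    (by rw [sig_xG hF, map_one]) (by rw [sig_xG hF, map_one]) (hord htop) (hord hs) ?_ hx
  intro g hg he
  exact hnc g hg he

/-- The odd characteristic case, generic type. -/
theorem odd_generic' [Finite ↥H] [IsAlgClosed F] {p : ℕ} [Fact p.Prime] [CharP F p]
    (hm : ChevMonoN.checkMono T X D = true) (h2 : (2 : F) ≠ 0)
    {j0 b1 top : ℕ} {L : ℕ → Prop} (hE : ETab R D X j0 b1) (htop : top < D.nroots)
    (hmax : ∀ s < D.nroots, s ≤ top) (hpos : R.N ≤ top) (hbot : D.neg top = 0) (hb1top : b1 ≠ top)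
    (hT2 : T2Tab R D) (hC : ChainT D L)
    (hdown : ∀ r < D.nroots, L r → r ≠ 0 → ∃ i < D.rank, X.wf i r < r ∧ L (X.wf i r))
    (hup : ∀ r < D.nroots, L r → ∀ i < D.rank, L (X.wf i r)) (hLtop : L top)
    (hcart0 : 0 < D.cartan j0 top) (hcart : ∀ j < D.rank, j ≠ j0 → D.cartan j top = 0)
    {x : GL D.Idx F} (hx : x ∈ H) : glMap D f x = x := by
  have h0 : 0 < D.nroots := by omega
  exact fixed_main' hF htop hmax hpos f H hHG hM hNS hNB (p := p) hT2 hm h2 h0 hbot hC hdown hup hLtop hE.hj0 hcart0 hcart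
    (fun y hy h3 h4 h5 => exc_generic' hF hm h2 hE htop hmax hpos hbot hb1top f H (p := p) hHG hM hNS h0 hy h3 h4 h5) hx

end Over

/-- The final assembly. -/
theorem assembly {k : Type*} [Field k] [IsAlgClosed k] (p : ℕ) [hp : Fact p.Prime] [CharP k p]
    (a : ℕ) (ha : 1 ≤ a) (M : Subgroup (GL D.Idx k)) (hMfin : Finite ↥M) (hMG : M ≤ D.group k)
    (hLM : Subgroup.closure {g : GL D.Idx k | ∃ (s : ℕ) (t : k), t ^ (p ^ a) = t ∧ (g : Matrix D.Idx D.Idx k) = D.x k s t} ≤ M)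
    {top : ℕ} (htop : top < D.nroots)
    (hmulT : ∀ (f0 : k ≃+* k), Lf D f0 ≤ M → ∀ {u v : k}, hF.c.xG top u ∈ M → hF.c.xG top v ∈ M → hF.c.xG top (u * v) ∈ M)
    (hupT : ∀ (f0 : k ≃+* k), Lf D f0 ≤ M → ∀ {t : k}, hF.c.xG top t ∈ M → ∀ {r : ℕ}, r < D.nroots → hF.c.xG r t ∈ M)
    (hmain : ∀ f : k ≃+* k, Lf D f ≤ M → (∀ t : k, hF.c.xG top t ∈ M → f t = t) → ∀ x ∈ M, glMap D f x = x) :
    ∃ r : ℕ, 1 ≤ r ∧ Subgroup.closure {g : GL D.Idx k | ∃ (s : ℕ) (t : k), t ^ ((p ^ a) ^ r) = t ∧ (g : Matrix D.Idx D.Idx k) = D.x k s t} ≤ M ∧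
      ∀ g ∈ M, ∀ i j : D.Idx, ((g : Matrix D.Idx D.Idx k) i j) ^ ((p ^ a) ^ r) = (g : Matrix D.Idx D.Idx k) i j := by
  haveI := hMfin
  have ha0 : a ≠ 0 := by omega
  let f0 : k ≃+* k := iterateFrobeniusEquiv k p a
  have hM0 : Lf D f0 ≤ M := by
    unfold Lf
    rw [Subgroup.closure_le]
    rintro g ⟨s, t, hs, ht, hg⟩
    exact hLM (Subgroup.subset_closure ⟨s, t, ht, hg⟩)
  have hq : ∀ t : k, t ^ (p ^ a) = t → hF.c.xG top t ∈ M := fun t ht => hM0 (xG_mem_Lf hF f0 htop ht)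
  obtain ⟨d, hd, hK⟩ := exists_frob hF p M htop ha0 hq (hmulT f0 hM0)
  let f : k ≃+* k := iterateFrobeniusEquiv k p (a * d)
  have hfe : ∀ t : k, f t = t ↔ t ^ ((p ^ a) ^ d) = t := by
    intro t
    show t ^ p ^ (a * d) = t ↔ _
    rw [pow_mul]
  have hall : ∀ {t : k}, t ^ ((p ^ a) ^ d) = t → ∀ {r : ℕ}, r < D.nroots → hF.c.xG r t ∈ M :=
    fun ht _ hr => hupT f0 hM0 ((hK _).2 ht) hr
  have hMf : Lf D f ≤ M := by
    unfold Lf
    rw [Subgroup.closure_le]
    rintro g ⟨s, t, hs, ht, hg⟩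
    rw [SetLike.mem_coe, hF.c.eq_xG hg]
    exact hall ((hfe t).1 ht) hs
  have hfixall := hmain f hMf (fun t ht => (hfe t).2 ((hK t).1 ht))
  refine ⟨d, by omega, ?_, ?_⟩
  · rw [Subgroup.closure_le]
    rintro g ⟨s, t, ht, hg⟩
    by_cases hs : s < D.nroots
    · rw [SetLike.mem_coe, hF.c.eq_xG hg]
      exact hall ht hs
    · have h1 : D.x k s t = 1 := by
        unfold ChevalleyDatum.x
        exact dif_neg hs
      have h2 : g = 1 := by
        apply Units.ext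
        rw [hg, h1, Units.val_one]
      rw [h2]
      exact one_mem _
  · intro g hg i j
    have h1 := hfixall g hg
    have h2 := congrArg (fun y : GL D.Idx k => (y : Matrix D.Idx D.Idx k) i j) h1
    simp only [glMap_val, Matrix.map_apply] at h2
    exact (hfe _).1 h2

end Cfsg.Agent.Lib.ChevSub2
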