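import Mathlib
import Cfsg.Agent.Lib.ChevSub.DatB2
import Cfsg.Agent.Lib.ChevSub2.Main
import Cfsg.Agent.Lib.ChevSub2.B2Exc
import Cfsg.Agent.Lib.ChevSub2.B2Field

/-!
# Finite overgroups in type B2
-/

set_option autoImplicit false
set_option maxRecDepth 100000
set_option linter.unusedSectionVars false
set_option linter.unusedVariables false
set_option linter.unnecessarySimpa false

namespace Cfsg.Agent.Lib.ChevSub2.InfB2

open Cfsg Cfsg.Lie Matrix Cfsg.Agent.Lib.Chev Cfsg.Agent.Lib.Chev.Full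
open Cfsg.Agent.Lib.ChevTransfer Cfsg.Agent.Lib.ChevAut.SubField Cfsg.Agent.Lib.ChevInv
open Cfsg.Agent.Lib.ChevAut.ParabFit
open Cfsg.Agent.Lib.ChevSub Cfsg.Agent.Lib.ChevSub.DatB2 Cfsg.Agent.Lib.Chev.TabB2 Cfsg.Agent.Lib.Chev.RootB2T

theorem hup : ∀ r < chevB2.nroots, chevB2.isLong r = true → r ≠ 7 → ∃ i < chevB2.rank, r < X.wf i r ∧ chevB2.isLong (X.wf i r) = true := by
  decide +kernel

theorem hupS : ∀ r < chevB2.nroots, ¬ chevB2.isLong r = true → r ≠ 6 → ∃ i < chevB2.rank, r < X.wf i r ∧ ¬ chevB2.isLong (X.wf i r) = true := by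
  decide +kernel

/-- The Cartan matrix, inverted up to the factor two. -/
def W : Fin chevB2.rank → Fin chevB2.rank → ℤ := ![![2, 1], ![2, 2]]

theorem hW : ∀ k j : Fin chevB2.rank, ∑ s : Fin chevB2.rank, chevB2.cartan j (chevB2.simple s) * W k s = if j = k then (2 : ℤ) else 0 := by
  decide +kernel

theorem hmain {F : Type*} [Field F] [IsAlgClosed F] {p : ℕ} [Fact p.Prime] [CharP F p] (f : F ≃+* F)
    (H : Subgroup (GL chevB2.Idx F)) [Finite ↥H] (hHG : H ≤ chevB2.group F) (hM : Lf chevB2 f ≤ H)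
    (hfix : ∀ t : F, hF.c.xG 7 t ∈ H → f t = t) : ∀ x ∈ H, glMap chevB2 f x = x := by
  have h0 : 0 < chevB2.nroots := by decide
  by_cases hp : p = 2
  · subst hp
    have hq : (2 : F) = 0 := CharTwo.two_eq_zero
    have hq' : (((2 : ℕ) : ℕ) : F) = 0 := by exact_mod_cast hq
    have hNS : ∀ u ∈ H, u ∈ chevB2.posUnipotent F → glMap chevB2 f u = u :=
      ns_special hF f H hM hHG (δ := 6) htop hpos hmax (by decide) (by decide +kernel)
        (fun _ => hcentD_of hF (by decide) (by decide +kernel) hq' (by decide +kernel)) cov_s hfix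
        (fun s0 c0 hx => B2.b2_special f H hM (fun {a} ha => hfix a ha) hx)
    have hNB : ∀ b ∈ H, b ∈ chevB2.borelSubgroup F → glMap chevB2 f b = b := fun b hb hbB =>
      nb_T hF f H hHG hM hNS hT2 (by decide) (fun c hc => hM (tor_fixed_mem hF f (d := 2) W hW
        (fun a h => by
          have e : ((a ^ (2 : ℤ) : Fˣ) : F) = (a : F) ^ 2 := by
            rw [zpow_ofNat, Units.val_pow_eq_pow_val]
          rw [e, map_pow] at h
          exact B2.sq_inj h) c hc)) hb hbB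
    intro x hx
    exact two_of_roots' hF f H hM hHG hNS hNB hT2 htop (s := 6) (by decide) (fun g hg he => no_conj_ls hg he) hx
  · have h2 : (2 : F) ≠ 0 := by
      intro h
      have h3 : ((2 : ℕ) : F) = 0 := by exact_mod_cast h
      have h4 := (CharP.cast_eq_zero_iff F p 2).1 h3
      exact hp ((Nat.prime_dvd_prime_iff_eq (Fact.out) Nat.prime_two).1 h4)
    have hNS : ∀ u ∈ H, u ∈ chevB2.posUnipotent F → glMap chevB2 f u = u :=
      ns_generic hF f H hM hHG htop hpos hmax (cov_ns h2) hfix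
    have hEx : ∀ y ∈ H, ((y : Matrix chevB2.Idx chevB2.Idx F) (Sum.inr ⟨0, h0⟩) (Sum.inr ⟨7, htop⟩)) ^ 2 = -1 →
        f ((y : Matrix chevB2.Idx chevB2.Idx F) (Sum.inr ⟨0, h0⟩) (Sum.inr ⟨7, htop⟩)) ≠
          (y : Matrix chevB2.Idx chevB2.Idx F) (Sum.inr ⟨0, h0⟩) (Sum.inr ⟨7, htop⟩) →
        (∀ τ : F, f τ = τ → τ ≠ 0 → τ ^ 2 = 1) → False :=
      fun y hy h1 h3 _ => B2.exc_b2' f H hM hNS (p := p) ChevMonoN.mono_B2 h2 hHG h0 htop hy h1 h3
    have hEnt : ∀ y ∈ H, f ((y : Matrix chevB2.Idx chevB2.Idx F) (Sum.inr ⟨0, h0⟩) (Sum.inr ⟨7, htop⟩)) =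
        (y : Matrix chevB2.Idx chevB2.Idx F) (Sum.inr ⟨0, h0⟩) (Sum.inr ⟨7, htop⟩) := by
      intro y hy
      rcases entry_dichotomy' hF htop hmax hpos f H hHG hM hNS (p := p) ChevMonoN.mono_B2 h2 h0 hbot hy with h | ⟨h3, h4⟩
      · exact h
      · by_contra hne
        exact hEx y hy h3 hne h4
    have hNB : ∀ b ∈ H, b ∈ chevB2.borelSubgroup F → glMap chevB2 f b = b := fun b hb hbB =>
      nb_star hF f H hHG hM hNS hT2 (by decide) htop hpos hmax (cov_ns h2) ChevMonoN.mono_B2 h2 h0 hbot hC hdown hup_all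
        (by decide +kernel) hEnt hb hbB
    intro x hx
    exact fixed_main' hF htop hmax hpos f H hHG hM hNS hNB (p := p) hT2 (ChevMonoN.mono_B2) h2 h0 hbot hC hdown hup_all
      (by decide +kernel) (j0 := 0) (by decide) hcart0 hcart hEx hx

/-- The theorem for type B2. -/
theorem main {k : Type*} [Field k] [IsAlgClosed k] (p : ℕ) [hp : Fact p.Prime] [CharP k p]
    (a : ℕ) (ha : 1 ≤ a) (M : Subgroup (GL chevB2.Idx k)) (hMfin : Finite ↥M) (hMG : M ≤ chevB2.group k)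
    (hLM : Subgroup.closure {g : GL chevB2.Idx k | ∃ (s : ℕ) (t : k), t ^ (p ^ a) = t ∧ (g : Matrix chevB2.Idx chevB2.Idx k) = chevB2.x k s t} ≤ M) :
    ∃ r : ℕ, 1 ≤ r ∧ Subgroup.closure {g : GL chevB2.Idx k | ∃ (s : ℕ) (t : k), t ^ ((p ^ a) ^ r) = t ∧ (g : Matrix chevB2.Idx chevB2.Idx k) = chevB2.x k s t} ≤ M ∧
      ∀ g ∈ M, ∀ i j : chevB2.Idx, ((g : Matrix chevB2.Idx chevB2.Idx k) i j) ^ ((p ^ a) ^ r) = (g : Matrix chevB2.Idx chevB2.Idx k) i j := by
  haveI := hMfin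
  have hmulT : ∀ f0 : k ≃+* k, Lf chevB2 f0 ≤ M → ∀ {u v : k}, hF.c.xG 7 u ∈ M → hF.c.xG 7 v ∈ M → hF.c.xG 7 (u * v) ∈ M :=
    fun f0 hM0 _ _ hu hv => B2.b2_mul f0 M hM0 (p := p) hu hv
  exact assembly hF p a ha M hMfin hMG hLM htop hmulT
    (fun f0 hM0 _ ht _ hr => up_all_ns hF f0 M hM0 (L := fun r => chevB2.isLong r = true) (δ := 6) (j := 1) (s1 := 5)
      htop (by decide) hup hupS (hmulT f0 hM0) (by decide) (by decide +kernel) (by decide +kernel) (by decide) (by decide +kernel)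
      (by decide +kernel) ht hr)
    (fun f hMf hfix => hmain (p := p) f M hMG hMf hfix)

end Cfsg.Agent.Lib.ChevSub2.InfB2
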