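import Mathlib
import Cfsg.Agent.Lib.ChevSub.DatE8
import Cfsg.Agent.Lib.ChevSub2.Main

/-!
# Finite overgroups in type E8
-/

set_option autoImplicit false
set_option maxRecDepth 100000
set_option linter.unusedSectionVars false
set_option linter.unusedVariables false
set_option linter.unnecessarySimpa false

namespace Cfsg.Agent.Lib.ChevSub2.InfE8

open Cfsg Cfsg.Lie Matrix Cfsg.Agent.Lib.Chev Cfsg.Agent.Lib.Chev.Full
open Cfsg.Agent.Lib.ChevTransfer Cfsg.Agent.Lib.ChevAut.SubField Cfsg.Agent.Lib.ChevInv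
open Cfsg.Agent.Lib.ChevAut.ParabFit
open Cfsg.Agent.Lib.ChevSub Cfsg.Agent.Lib.ChevSub.DatE8 Cfsg.Agent.Lib.Chev.TabE8 Cfsg.Agent.Lib.Chev.RootE8T

theorem hmulT {F : Type*} [Field F] (f0 : F ≃+* F) (H : Subgroup (GL chevE8.Idx F)) (hM : Lf chevE8 f0 ≤ H)
    {u v : F} (hu : hF.c.xG 239 u ∈ H) (hv : hF.c.xG 239 v ∈ H) : hF.c.xG 239 (u * v) ∈ H :=
  long_mul hF f0 H hM (L := fun _ => True) htop (fun r hr _ hne => by
      obtain ⟨i, hi, h3⟩ := hup r hr hne
      exact ⟨i, hi, h3, trivial⟩) (r := 0) (s := 120) (m := 1) (by decide) (by decide) (by decide) trivial trivial trivial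
    (by decide) (by decide +kernel) hterms (by simp) (Or.inl (by simp)) hu hv

theorem hmain {F : Type*} [Field F] [IsAlgClosed F] {p : ℕ} [Fact p.Prime] [CharP F p] (f : F ≃+* F)
    (H : Subgroup (GL chevE8.Idx F)) [Finite ↥H] (hHG : H ≤ chevE8.group F) (hM : Lf chevE8 f ≤ H)
    (hfix : ∀ t : F, hF.c.xG 239 t ∈ H → f t = t) : ∀ x ∈ H, glMap chevE8 f x = x := by
  have hNS := ns_generic hF f H hM hHG htop hpos hmax cov hfix
  have hNB : ∀ b ∈ H, b ∈ chevE8.borelSubgroup F → glMap chevE8 f b = b := fun b hb hbB =>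
    nb_norm hF f H hHG hM hNS (p := p) hT2 (by decide) htop hpos hmax cov (j0 := 7) (by decide) (by decide +kernel) hb hbB
  intro x hx
  by_cases hp : p = 2
  · subst hp
    exact two_of_ranks' hF f H hM hHG hNS hNB hT2 (P := [239]) (Q := [232, 233]) (by decide +kernel) (by decide +kernel)
      (by decide +kernel) (by decide +kernel) InvE8.rk0 InvE8.rk1 (by norm_num) (by norm_num) (by norm_num) hx
  · have h2 : (2 : F) ≠ 0 := by
      intro h
      have h3 : ((2 : ℕ) : F) = 0 := by exact_mod_cast h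
      have h4 := (CharP.cast_eq_zero_iff F p 2).1 h3
      exact hp ((Nat.prime_dvd_prime_iff_eq (Fact.out) Nat.prime_two).1 h4)
    exact odd_generic' hF f H hM hHG hNS hNB (p := p) (ChevMonoN.mono_E8) h2 etab htop hmax hpos hbot (by decide) hT2 hC hdown
      (fun _ _ _ _ _ => trivial) trivial hcart0 hcart hx

/-- The theorem for type E8. -/
theorem main {k : Type*} [Field k] [IsAlgClosed k] (p : ℕ) [hp : Fact p.Prime] [CharP k p]
    (a : ℕ) (ha : 1 ≤ a) (M : Subgroup (GL chevE8.Idx k)) (hMfin : Finite ↥M) (hMG : M ≤ chevE8.group k)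
    (hLM : Subgroup.closure {g : GL chevE8.Idx k | ∃ (s : ℕ) (t : k), t ^ (p ^ a) = t ∧ (g : Matrix chevE8.Idx chevE8.Idx k) = chevE8.x k s t} ≤ M) :
    ∃ r : ℕ, 1 ≤ r ∧ Subgroup.closure {g : GL chevE8.Idx k | ∃ (s : ℕ) (t : k), t ^ ((p ^ a) ^ r) = t ∧ (g : Matrix chevE8.Idx chevE8.Idx k) = chevE8.x k s t} ≤ M ∧
      ∀ g ∈ M, ∀ i j : chevE8.Idx, ((g : Matrix chevE8.Idx chevE8.Idx k) i j) ^ ((p ^ a) ^ r) = (g : Matrix chevE8.Idx chevE8.Idx k) i j :=
  assembly hF p a ha M hMfin hMG hLM htop (fun f0 hM0 _ _ hu hv => hmulT f0 M hM0 hu hv)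
    (fun f0 hM0 _ ht _ hr => up_all_sl hF f0 M hM0 htop hup ht hr)
    (fun f hMf hfix => by
      haveI := hMfin
      exact hmain (p := p) f M hMG hMf hfix)

end Cfsg.Agent.Lib.ChevSub2.InfE8
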