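import Mathlib
import Cfsg.Agent.Lib.ChevSub.DatF4
import Cfsg.Agent.Lib.ChevSub2.Main

/-!
# Finite overgroups in type F4
-/

set_option autoImplicit false
set_option maxRecDepth 100000
set_option linter.unusedSectionVars false
set_option linter.unusedVariables false
set_option linter.unnecessarySimpa false

namespace Cfsg.Agent.Lib.ChevSub2.InfF4

open Cfsg Cfsg.Lie Matrix Cfsg.Agent.Lib.Chev Cfsg.Agent.Lib.Chev.Full
open Cfsg.Agent.Lib.ChevTransfer Cfsg.Agent.Lib.ChevAut.SubField Cfsg.Agent.Lib.ChevInv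
open Cfsg.Agent.Lib.ChevAut.ParabFit
open Cfsg.Agent.Lib.ChevSub Cfsg.Agent.Lib.ChevSub.DatF4 Cfsg.Agent.Lib.Chev.TabF4 Cfsg.Agent.Lib.Chev.RootF4T

theorem hmulT {F : Type*} [Field F] (f0 : F ≃+* F) (H : Subgroup (GL chevF4.Idx F)) (hM : Lf chevF4 f0 ≤ H)
    {u v : F} (hu : hF.c.xG 47 u ∈ H) (hv : hF.c.xG 47 v ∈ H) : hF.c.xG 47 (u * v) ∈ H :=
  long_mul hF f0 H hM (L := fun r => chevF4.isLong r = true) htop hup (r := 0) (s := 24) (m := 1)
    (by decide) (by decide) (by decide) (by decide +kernel) (by decide +kernel) (by decide +kernel)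
    (by decide) (by decide +kernel) hterms (by simp) (Or.inl (by simp)) hu hv

/-- The inverse Cartan matrix. -/
def W : Fin chevF4.rank → Fin chevF4.rank → ℤ := ![![2, 3, 2, 1], ![3, 6, 4, 2], ![4, 8, 6, 3], ![2, 4, 3, 2]]

theorem hW : ∀ k j : Fin chevF4.rank, ∑ s : Fin chevF4.rank, chevF4.cartan j (chevF4.simple s) * W k s = if j = k then (1 : ℤ) else 0 := by
  decide +kernel

theorem hmain {F : Type*} [Field F] [IsAlgClosed F] {p : ℕ} [Fact p.Prime] [CharP F p] (f : F ≃+* F)
    (H : Subgroup (GL chevF4.Idx F)) [Finite ↥H] (hHG : H ≤ chevF4.group F) (hM : Lf chevF4 f ≤ H)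
    (hfix : ∀ t : F, hF.c.xG 47 t ∈ H → f t = t) : ∀ x ∈ H, glMap chevF4 f x = x := by
  have hNS : ∀ u ∈ H, u ∈ chevF4.posUnipotent F → glMap chevF4 f u = u := by
    by_cases hq : (2 : F) = 0
    · have hq' : (((2 : ℕ) : ℕ) : F) = 0 := by exact_mod_cast hq
      refine ns_special hF f H hM hHG (δ := 44) htop hpos hmax (by decide) (by decide +kernel)
        (fun _ => hcentD_of hF (by decide) (by decide +kernel) hq' (by decide +kernel)) cov_s hfix ?_
      intro s0 c0 hx
      refine special_fixed hF f H hM (L := fun r => chevF4.isLong r = true) (top := 47) (δ := 44)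
        (r2 := 3) (s2 := 33) (m2 := 7) (j2 := 0) (s3 := 4) (j0 := 3) (θ' := 46)
        htop (by decide) hup hupS hfix
        (by decide) (by decide) (by decide) (by decide +kernel) (by decide +kernel) (by decide +kernel)
        (by decide) (by decide +kernel) hterms2 (by simp) (Or.inl (by simp))
        (by decide) (by decide +kernel) (by decide +kernel) (by decide) (by decide +kernel)
        (n := 2) (by decide +kernel) (sq_inj_of hq)
        (by decide) (by decide +kernel) (by decide +kernel) (by decide) (by decide +kernel) (by decide +kernel) hterms3 (by norm_num)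
        (fun a => xG_comm_nil hF (by decide) (by decide) (by decide +kernel) (by decide +kernel) (by decide +kernel) 1 a)
        hx
    · exact ns_generic hF f H hM hHG htop hpos hmax (cov_ns hq) hfix
  have hNB : ∀ b ∈ H, b ∈ chevF4.borelSubgroup F → glMap chevF4 f b = b := fun b hb hbB =>
    nb_T hF f H hHG hM hNS hT2 (by decide) (fun c hc => hM (tor_fixed_mem hF f (d := 1) W hW
      (fun a h => by simpa using h) c hc)) hb hbB
  intro x hx
  by_cases hp : p = 2
  · subst hp
    exact two_of_roots' hF f H hM hHG hNS hNB hT2 htop (s := 44) (by decide) (fun g hg he => InvF4.no_conj_ls hg he) hx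
  · have h2 : (2 : F) ≠ 0 := by
      intro h
      have h3 : ((2 : ℕ) : F) = 0 := by exact_mod_cast h
      have h4 := (CharP.cast_eq_zero_iff F p 2).1 h3
      exact hp ((Nat.prime_dvd_prime_iff_eq (Fact.out) Nat.prime_two).1 h4)
    exact odd_generic' hF f H hM hHG hNS hNB (p := p) (ChevMonoN.mono_F4) h2 etab htop hmax hpos hbot (by decide) hT2 hC hdown
      hup_all (by decide +kernel) hcart0 hcart hx

/-- The theorem for type F4. -/
theorem main {k : Type*} [Field k] [IsAlgClosed k] (p : ℕ) [hp : Fact p.Prime] [CharP k p]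
    (a : ℕ) (ha : 1 ≤ a) (M : Subgroup (GL chevF4.Idx k)) (hMfin : Finite ↥M) (hMG : M ≤ chevF4.group k)
    (hLM : Subgroup.closure {g : GL chevF4.Idx k | ∃ (s : ℕ) (t : k), t ^ (p ^ a) = t ∧ (g : Matrix chevF4.Idx chevF4.Idx k) = chevF4.x k s t} ≤ M) :
    ∃ r : ℕ, 1 ≤ r ∧ Subgroup.closure {g : GL chevF4.Idx k | ∃ (s : ℕ) (t : k), t ^ ((p ^ a) ^ r) = t ∧ (g : Matrix chevF4.Idx chevF4.Idx k) = chevF4.x k s t} ≤ M ∧
      ∀ g ∈ M, ∀ i j : chevF4.Idx, ((g : Matrix chevF4.Idx chevF4.Idx k) i j) ^ ((p ^ a) ^ r) = (g : Matrix chevF4.Idx chevF4.Idx k) i j := by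
  haveI := hMfin
  exact assembly hF p a ha M hMfin hMG hLM htop (fun f0 hM0 _ _ hu hv => hmulT f0 M hM0 hu hv)
    (fun f0 hM0 _ ht _ hr => up_all_ns hF f0 M hM0 (L := fun r => chevF4.isLong r = true) (δ := 44) (j := 2) (s1 := 8)
      htop (by decide) hup hupS (hmulT f0 M hM0) (by decide) (by decide +kernel) (by decide +kernel) (by decide) (by decide +kernel)
      (by decide +kernel) ht hr)
    (fun f hMf hfix => hmain (p := p) f M hMG hMf hfix)

end Cfsg.Agent.Lib.ChevSub2.InfF4
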