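import Mathlib
import Cfsg.Agent.Lib.ChevSub.DatG2
import Cfsg.Agent.Lib.ChevSub2.Main

/-!
# Finite overgroups in type G2
-/

set_option autoImplicit false
set_option maxRecDepth 100000
set_option linter.unusedSectionVars false
set_option linter.unusedVariables false
set_option linter.unnecessarySimpa false

namespace Cfsg.Agent.Lib.ChevSub2.InfG2

open Cfsg Cfsg.Lie Matrix Cfsg.Agent.Lib.Chev Cfsg.Agent.Lib.Chev.Full
open Cfsg.Agent.Lib.ChevTransfer Cfsg.Agent.Lib.ChevAut.SubField Cfsg.Agent.Lib.ChevInv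
open Cfsg.Agent.Lib.ChevAut.ParabFit
open Cfsg.Agent.Lib.ChevSub Cfsg.Agent.Lib.ChevSub.DatG2 Cfsg.Agent.Lib.Chev.TabG2 Cfsg.Agent.Lib.Chev.RootG2T

theorem hmulT {F : Type*} [Field F] (f0 : F ≃+* F) (H : Subgroup (GL chevG2.Idx F)) (hM : Lf chevG2 f0 ≤ H)
    {u v : F} (hu : hF.c.xG 11 u ∈ H) (hv : hF.c.xG 11 v ∈ H) : hF.c.xG 11 (u * v) ∈ H :=
  long_mul hF f0 H hM (L := fun r => chevG2.isLong r = true) htop hup (r := 0) (s := 6) (m := 1)
    (by decide) (by decide) (by decide) (by decide +kernel) (by decide +kernel) (by decide +kernel)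
    (by decide) (by decide +kernel) hterms (by simp) (Or.inl (by simp)) hu hv

/-- The inverse Cartan matrix. -/
def W : Fin chevG2.rank → Fin chevG2.rank → ℤ := ![![2, 1], ![3, 2]]

theorem hW : ∀ k j : Fin chevG2.rank, ∑ s : Fin chevG2.rank, chevG2.cartan j (chevG2.simple s) * W k s = if j = k then (1 : ℤ) else 0 := by
  decide +kernel

theorem hmain {F : Type*} [Field F] [IsAlgClosed F] {p : ℕ} [Fact p.Prime] [CharP F p] (f : F ≃+* F)
    (H : Subgroup (GL chevG2.Idx F)) [Finite ↥H] (hHG : H ≤ chevG2.group F) (hM : Lf chevG2 f ≤ H)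
    (hfix : ∀ t : F, hF.c.xG 11 t ∈ H → f t = t) : ∀ x ∈ H, glMap chevG2 f x = x := by
  have hNS : ∀ u ∈ H, u ∈ chevG2.posUnipotent F → glMap chevG2 f u = u := by
    by_cases hq : (3 : F) = 0
    · have hq' : (((3 : ℕ) : ℕ) : F) = 0 := by exact_mod_cast hq
      refine ns_special hF f H hM hHG (δ := 9) htop hpos hmax (by decide) (by decide +kernel)
        (fun _ => hcentD_of hF (by decide) (by decide +kernel) hq' (by decide +kernel)) cov_s hfix ?_
      intro s0 c0 hx
      refine special_fixed hF f H hM (L := fun r => chevG2.isLong r = true) (top := 11) (δ := 9)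
        (r2 := 2) (s2 := 7) (m2 := 3) (j2 := 0) (s3 := 1) (j0 := 1) (θ' := 10)
        htop (by decide) hup hupS hfix
        (by decide) (by decide) (by decide) (by decide +kernel) (by decide +kernel) (by decide +kernel)
        (by decide) (by decide +kernel) hterms2 (by
        intro c hc
        simp only [List.mem_cons, List.not_mem_nil, or_false] at hc
        rcases hc with rfl | rfl
        · show ((-3 : ℤ) : F) = 0
          have e : (((-3 : ℤ) : ℤ) : F) = -1 * (3 : F) := by push_cast; ring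
          rw [e, hq, mul_zero]
        · show ((3 : ℤ) : F) = 0
          have e : (((3 : ℤ) : ℤ) : F) = 1 * (3 : F) := by push_cast; ring
          rw [e, hq, mul_zero]) (Or.inl (by
        have e : (((-2 : ℤ) : ℤ) : F) = 1 + ((-3 : ℤ) : F) := by push_cast; ring
        have e2 : (((-3 : ℤ) : ℤ) : F) = -1 * (3 : F) := by push_cast; ring
        rw [e, e2, hq, mul_zero, add_zero]))
        (by decide) (by decide +kernel) (by decide +kernel) (by decide) (by decide +kernel)
        (n := 3) (by decide +kernel) (cube_inj_of hq)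
        (by decide) (by decide +kernel) (by decide +kernel) (by decide) (by decide +kernel) (by decide +kernel) hterms3 (by norm_num)
        (fun a => xG_comm_nil hF (by decide) (by decide) (by decide +kernel) (by decide +kernel) (by decide +kernel) 1 a)
        hx
    · exact ns_generic hF f H hM hHG htop hpos hmax (cov_ns hq) hfix
  have hNB : ∀ b ∈ H, b ∈ chevG2.borelSubgroup F → glMap chevG2 f b = b := fun b hb hbB =>
    nb_T hF f H hHG hM hNS hT2 (by decide) (fun c hc => hM (tor_fixed_mem hF f (d := 1) W hW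
      (fun a h => by simpa using h) c hc)) hb hbB
  intro x hx
  by_cases hp : p = 2
  · subst hp
    exact two_of_roots' hF f H hM hHG hNS hNB hT2 htop (s := 9) (by decide) (fun g hg he => InvG2.no_conj_ls hg he) hx
  · have h2 : (2 : F) ≠ 0 := by
      intro h
      have h3 : ((2 : ℕ) : F) = 0 := by exact_mod_cast h
      have h4 := (CharP.cast_eq_zero_iff F p 2).1 h3
      exact hp ((Nat.prime_dvd_prime_iff_eq (Fact.out) Nat.prime_two).1 h4)
    exact odd_generic' hF f H hM hHG hNS hNB (p := p) (ChevMonoN.mono_G2) h2 etab htop hmax hpos hbot (by decide) hT2 hC hdown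
      hup_all (by decide +kernel) hcart0 hcart hx

/-- The theorem for type G2. -/
theorem main {k : Type*} [Field k] [IsAlgClosed k] (p : ℕ) [hp : Fact p.Prime] [CharP k p]
    (a : ℕ) (ha : 1 ≤ a) (M : Subgroup (GL chevG2.Idx k)) (hMfin : Finite ↥M) (hMG : M ≤ chevG2.group k)
    (hLM : Subgroup.closure {g : GL chevG2.Idx k | ∃ (s : ℕ) (t : k), t ^ (p ^ a) = t ∧ (g : Matrix chevG2.Idx chevG2.Idx k) = chevG2.x k s t} ≤ M) :
    ∃ r : ℕ, 1 ≤ r ∧ Subgroup.closure {g : GL chevG2.Idx k | ∃ (s : ℕ) (t : k), t ^ ((p ^ a) ^ r) = t ∧ (g : Matrix chevG2.Idx chevG2.Idx k) = chevG2.x k s t} ≤ M ∧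
      ∀ g ∈ M, ∀ i j : chevG2.Idx, ((g : Matrix chevG2.Idx chevG2.Idx k) i j) ^ ((p ^ a) ^ r) = (g : Matrix chevG2.Idx chevG2.Idx k) i j := by
  haveI := hMfin
  exact assembly hF p a ha M hMfin hMG hLM htop (fun f0 hM0 _ _ hu hv => hmulT f0 M hM0 hu hv)
    (fun f0 hM0 _ ht _ hr => up_all_ns hF f0 M hM0 (L := fun r => chevG2.isLong r = true) (δ := 9) (j := 1) (s1 := 3)
      htop (by decide) hup hupS (hmulT f0 M hM0) (by decide) (by decide +kernel) (by decide +kernel) (by decide) (by decide +kernel)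
      (by decide +kernel) ht hr)
    (fun f hMf hfix => hmain (p := p) f M hMG hMf hfix)

end Cfsg.Agent.Lib.ChevSub2.InfG2
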